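import Cfsg.Agent.Lib.MaxClass.Degree
import Cfsg.Agent.Lib.Elem70.GenBound

/-!
# Sections and power subgroups of `p`-groups of maximal class

Owner: helper2.  `|H : ℧(H)| ≤ p ^ p` for every subgroup `H`, so every subgroup needs at most `p`
generators; the sections `P k / P (2 k + 1)` are elementary abelian.
-/

set_option autoImplicit false
set_option linter.style.haveILetI false
set_option linter.unusedSectionVars false

open scoped commutatorElement

namespace Cfsg.Agent.Lib.MaxClass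

universe u

variable {p n : ℕ} [hp : Fact p.Prime] {S : Type u} [Group S] [Finite S]

theorem MC.of_class [Group.IsNilpotent S] (hn : 4 ≤ n) (hcard : Nat.card S = p ^ n)
    (hmax : Group.nilpotencyClass S = n - 1) : MC p n S :=
  ⟨hcard, hn, fun hb => by
    have := Subgroup.lowerCentralSeries_eq_bot_iff_nilpotencyClass_le.1 hb
    omega⟩

theorem cm_map {G H : Type*} [Group G] [Group H] (f : G →* H) (t x : G) :
    ∀ k, f (cm t k x) = cm (f t) k (f x) := by
  intro k
  induction k with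
  | zero => rfl
  | succ k ih =>
    show f ⁅cm t k x, t⁆ = ⁅cm (f t) k (f x), f t⁆
    rw [map_commutatorElement, ih]

variable (h : MC p n S)
include h

theorem MC.exists_uniform (hp3 : 3 ≤ p) : ∃ t : S, Uniform n t := by
  have hd := h.deg_sub_two hp3
  have h4 := h.four_le
  have hM := h.M_ne_top (i := n - 2) (by omega) (by omega)
  obtain ⟨t, ht1, ht2, -⟩ := exists_notMem_three hp3 h.isPGroup h.P_one_ne_top hM hM
  refine ⟨t, h.uniform_of ht1 fun i h2 hin => ?_⟩
  rcases (by omega : i + 1 ≤ n - 2 ∨ i = n - 2) with hi | rfl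
  exacts [h.notMem_M hd (by omega) hi hin ht1, ht2]

theorem MC.crd_comm_t {t x : S} (hq : Pair n t x) {m : ℕ} (hm : 1 ≤ m) (hmn : m + 1 < n) {z : S}
    (hz : z ∈ P S m) :
    crd p (sq t x (m + 1)) (m + 1) ⁅z, t⁆ = crd p (sq t x m) m z := by
  have hs := h.sq_mem hq (k := m + 1) (by omega)
  have hs' := h.sq_notMem hq (k := m + 1) (by omega) hmn
  have := h.crd_hom (k := m) hm (by omega) (h.sq_mem hq hm) (h.sq_notMem hq hm (by omega))
    (fun z => crd p (sq t x (m + 1)) (m + 1) ⁅z, t⁆)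
    (fun a ha b hb => by
      show crd p _ _ ⁅a * b, t⁆ = _
      rw [show ⁅a * b, t⁆ = a * ⁅b, t⁆ * a⁻¹ * ⁅a, t⁆ by group,
        h.crd_mul (by omega) hmn hs hs' ((P_normal _).conj_mem _ (comm_mem hm hb t) a) (comm_mem hm ha t),
        h.crd_conj (by omega) hmn hs hs' (comm_mem hm hb t) a, add_comm])
    (fun a ha => h.crd_of_mem_succ (by omega) hmn hs hs' (comm_mem (by omega) ha t)) hz
  have hstep : ⁅sq t x m, t⁆ = sq t x (m + 1) := by
    obtain ⟨l, rfl⟩ := Nat.exists_eq_add_of_le' hm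
    rfl
  rw [this, hstep, h.crd_self (by omega) hmn hs hs', mul_one]

theorem MC.crd_cm {t x : S} (hq : Pair n t x) {y : S} (hy : y ∈ P S 1) :
    ∀ k, k + 1 < n → crd p (sq t x (k + 1)) (k + 1) (cm t k y) = crd p (sq t x 1) 1 y := by
  intro k
  induction k with
  | zero => exact fun _ => rfl
  | succ k ih =>
    intro hk
    rw [← ih (by omega)]
    have := cm_mem le_rfl hy t k
    exact h.crd_comm_t hq (by omega) hk (by rwa [Nat.add_comm 1 k] at this)

/-- A group of maximal class of order `p ^ (p + 1)` has exponent above `p`. -/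
theorem MC.exists_pow_ne_one (hp3 : 3 ≤ p) (hn : n = p + 1) : ∃ g : S, g ^ p ≠ 1 := by
  by_contra hexp
  push Not at hexp
  have h4 := h.four_le
  have hd := h.deg_sub_two hp3
  obtain ⟨t, ht⟩ := h.exists_uniform hp3
  obtain ⟨x, hx, hx'⟩ := h.exists_notMem_succ le_rfl (by omega)
  have hq : Pair n t x := ⟨ht, hx, hx'⟩
  set N : Subgroup (S × S) := (P S (n - 1)).map ((MonoidHom.id S).prod (MonoidHom.id S)) with hN
  haveI : N.Normal := ⟨fun z hz g => by
    obtain ⟨w, hw, rfl⟩ := hz
    refine ⟨w, hw, Prod.ext ?_ ?_⟩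
    · show w = g.1 * w * g.1⁻¹
      rw [(h.last_central hw g.1).symm.eq, mul_inv_cancel_right]
    · show w = g.2 * w * g.2⁻¹
      rw [(h.last_central hw g.2).symm.eq, mul_inv_cancel_right]⟩
  set π := QuotientGroup.mk' N with hπ
  have hlcs : ∀ i, lcs ((S × S) ⧸ N) i = ((lcs S i).prod (lcs S i)).map π := fun i => by
    rw [lcs, lcs, ← Subgroup.top_lowerCentralSeries_prod, Subgroup.map_lowerCentralSeries,
      Subgroup.map_top_of_surjective π (QuotientGroup.mk'_surjective _)]
  have hbot : P ((S × S) ⧸ N) (1 + p) = ⊥ := by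
    rw [P_eq_lcs (by omega), hlcs, show 1 + p - 1 = n - 1 by omega, h.lcs_last, Subgroup.bot_prod_bot,
      Subgroup.map_bot]
  have hT : ∀ z : (S × S) ⧸ N, z ^ p = 1 := fun z => by
    induction z using QuotientGroup.induction_on with | H z => ?_
    rw [← QuotientGroup.mk_pow, show z ^ p = 1 from Prod.ext (hexp _) (hexp _)]
    rfl
  have ha : π (x, x⁻¹) ∈ P ((S × S) ⧸ N) 1 := mem_relCentralizer.2 fun u hu => by
    rw [hlcs] at hu ⊢
    obtain ⟨⟨v, w⟩, ⟨hv, hw⟩, rfl⟩ := hu
    rw [← map_commutatorElement]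
    refine Subgroup.mem_map_of_mem π ⟨?_, ?_⟩
    · exact mem_relCentralizer.1 hx v hv
    · exact mem_relCentralizer.1 (inv_mem hx) w hw
  have hcm : ∀ k, cm (π (t, t)) k (π (x, x⁻¹)) = π (cm t k x, cm t k x⁻¹) := fun k => by
    rw [← cm_map π]
    congr 1
    refine Prod.ext ?_ ?_
    · exact cm_map (MonoidHom.fst S S) (t, t) (x, x⁻¹) k
    · exact cm_map (MonoidHom.snd S S) (t, t) (x, x⁻¹) k
  have hcrd1 : crd p (sq t x 1) 1 x⁻¹ = -1 := by
    rw [h.crd_inv le_rfl (by omega) (h.sq_mem hq le_rfl) (h.sq_notMem hq le_rfl (by omega)) hx]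
    exact congrArg Neg.neg (h.crd_self le_rfl (by omega) (h.sq_mem hq le_rfl)
      (h.sq_notMem hq le_rfl (by omega)))
  have hcrd0 : crd p (sq t x 1) 1 x = 1 :=
    h.crd_self le_rfl (by omega) (h.sq_mem hq le_rfl) (h.sq_notMem hq le_rfl (by omega))
  obtain ⟨l, hl, hmem⟩ := pow_congr_aux (p := p) le_rfl ha (π (t, t))
    (fun z _ => by rw [hT z]; exact one_mem _)
    (fun k hk2 hkp => by
      rw [hcm, ← map_commutatorElement]
      have hu : cm t (k - 1) x ∈ P S k := by
        have := cm_mem le_rfl hx t (k - 1)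
        rwa [show 1 + (k - 1) = k by omega] at this
      have hv : cm t (k - 1) x⁻¹ ∈ P S k := by
        have := cm_mem le_rfl (inv_mem hx) t (k - 1)
        rwa [show 1 + (k - 1) = k by omega] at this
      rcases Nat.lt_or_ge k (p - 1) with hlt | hge
      · rw [P_eq_lcs (by omega), hlcs, show 1 + k + 1 - 1 = k + 1 by omega]
        refine Subgroup.mem_map_of_mem π ⟨?_, ?_⟩
        · have := hd k 1 (by omega) le_rfl (by omega) _ hu _ hx
          rwa [P_eq_lcs (by omega), show k + 1 + 1 - 1 = k + 1 by omega] at this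
        · have := hd k 1 (by omega) le_rfl (by omega) _ hv _ (inv_mem hx)
          rwa [P_eq_lcs (by omega), show k + 1 + 1 - 1 = k + 1 by omega] at this
      · have hk : k + 1 = n - 1 := by omega
        have hw1 : ⁅cm t (k - 1) x, x⁆ ∈ P S (k + 1) := comm_le (by omega) le_rfl hu hx
        have hw2 : ⁅cm t (k - 1) x⁻¹, x⁻¹⁆ ∈ P S (k + 1) := comm_le (by omega) le_rfl hv (inv_mem hx)
        have c1 := h.comm_pairing hq (i := k) (j := 1) (by omega) le_rfl (by omega) hu hx
        have c2 := h.comm_pairing hq (i := k) (j := 1) (by omega) le_rfl (by omega) hv (inv_mem hx)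
        have e1 := h.crd_cm hq hx (k - 1) (by omega)
        have e2 := h.crd_cm hq (inv_mem hx) (k - 1) (by omega)
        rw [show k - 1 + 1 = k by omega] at e1 e2
        rw [e1, hcrd0] at c1
        rw [e2, hcrd1] at c2
        have hs := h.sq_mem hq (k := k + 1) (by omega)
        have hs' := h.sq_notMem hq (k := k + 1) (by omega) (by omega)
        have heq : ⁅cm t (k - 1) x, x⁆ = ⁅cm t (k - 1) x⁻¹, x⁻¹⁆ := by
          rw [← mul_inv_eq_one]
          refine h.eq_one (i := k + 1 + 1) (by omega) (h.crd_eq_zero (by omega) (by omega) hs hs'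
            (mul_mem hw1 (inv_mem hw2)) ?_)
          rw [h.crd_mul (by omega) (by omega) hs hs' hw1 (inv_mem hw2),
            h.crd_inv (by omega) (by omega) hs hs' hw2, c1, c2]
          ring
        have hone : π ⁅(cm t (k - 1) x, cm t (k - 1) x⁻¹), (x, x⁻¹)⁆ = 1 := (QuotientGroup.eq_one_iff _).2
          ⟨⁅cm t (k - 1) x, x⁆, by rw [← hk]; exact hw1, Prod.ext rfl heq⟩
        rw [hone]
        exact one_mem _)
  rw [hbot, Subgroup.mem_bot, ← map_mul, hT, hT, hT, inv_one, one_mul, one_mul, mul_one, inv_eq_one] at hmem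
  have hc : cm (π (t, t)) (p - 1) (π (x, x⁻¹)) = 1 := by
    obtain ⟨a, b, hab⟩ := ((Prime.coprime_iff_not_dvd (Nat.prime_iff_prime_int.1 hp.out)).2 hl :
      IsCoprime (p : ℤ) l)
    rw [← zpow_one (cm _ _ _), ← hab, zpow_add, mul_comm a, zpow_mul, zpow_natCast, hT, one_zpow, one_mul,
      mul_comm b, zpow_mul, hmem, one_zpow]
  rw [hcm] at hc
  obtain ⟨w, -, hw⟩ := (QuotientGroup.eq_one_iff _).1 hc
  have e1 := h.crd_cm hq hx (p - 1) (by omega)
  have e2 := h.crd_cm hq (inv_mem hx) (p - 1) (by omega)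
  have hw1 : w = cm t (p - 1) x := congrArg Prod.fst hw
  have hw2 : w = cm t (p - 1) x⁻¹ := congrArg Prod.snd hw
  rw [hcrd0, ← hw1] at e1
  rw [hcrd1, ← hw2, e1] at e2
  have h2 : ((2 : ℕ) : ZMod p) = 0 := by push_cast; linear_combination e2
  rw [ZMod.natCast_eq_zero_iff] at h2
  have := Nat.le_of_dvd (by omega) h2
  omega

omit h in
/-- The subgroup generated by the `p`-th powers of a subgroup. -/
def powClosure (p : ℕ) (H : Subgroup S) : Subgroup S := Subgroup.closure {y : S | ∃ g ∈ H, y = g ^ p}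

omit h in
theorem powClosure_le (H : Subgroup S) : powClosure p H ≤ H :=
  (Subgroup.closure_le _).2 fun _ ⟨g, hg, hy⟩ => hy ▸ pow_mem hg p

omit h in
theorem relIndex_powClosure_le {H : Subgroup S} {c : ℕ}
    (hc : Nat.card H ≤ c * Nat.card (powClosure p H)) : (powClosure p H).relIndex H ≤ c := by
  have h1 := Subgroup.relIndex_mul_relIndex ⊥ _ _ bot_le (powClosure_le (p := p) H)
  rw [Subgroup.relIndex_bot_left, Subgroup.relIndex_bot_left] at h1
  refine Nat.le_of_mul_le_mul_left ?_ (Nat.card_pos (α := powClosure p H))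
  rw [h1, Nat.mul_comm]
  exact hc

theorem MC.card_inf_P_le (hp3 : 3 ≤ p) (hn : p + 1 < n) (U : Subgroup S) :
    ∀ d i, i + d = n → 1 ≤ i →
      Nat.card (U ⊓ P S i : Subgroup S) ≤
        p ^ (p - 1) * Nat.card (powClosure p U ⊓ P S (i + p - 1) : Subgroup S) := by
  intro d
  induction d with
  | zero =>
    intro i hi h1
    rw [show i = n by omega, h.P_n, inf_bot_eq, Subgroup.card_bot]
    exact Nat.one_le_iff_ne_zero.2 (Nat.mul_ne_zero (pow_ne_zero _ hp.out.ne_zero) Nat.card_pos.ne')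
  | succ d ih =>
    intro i hi h1
    rcases Nat.lt_or_ge (n - i) p with hlt | hge
    · refine le_trans (Subgroup.card_le_of_le inf_le_right) ?_
      rw [h.card_P h1 (by omega)]
      exact (Nat.pow_le_pow_right hp.out.pos (by omega)).trans (Nat.le_mul_of_pos_right _ Nat.card_pos)
    have ih' := ih (i + 1) (by omega) (by omega)
    rw [show i + 1 + p - 1 = i + p by omega] at ih'
    have hWle : powClosure p U ⊓ P S (i + p) ≤ powClosure p U ⊓ P S (i + p - 1) :=
      inf_le_inf_left _ (P_anti (by omega))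
    by_cases hU : U ⊓ P S i ≤ P S (i + 1)
    · have : U ⊓ P S i = U ⊓ P S (i + 1) :=
        le_antisymm (le_inf inf_le_left hU) (inf_le_inf_left _ (P_succ_le i))
      rw [this]
      exact ih'.trans (Nat.mul_le_mul_left _ (Subgroup.card_le_of_le hWle))
    obtain ⟨g, hg, hg'⟩ := SetLike.not_le_iff_exists.1 hU
    obtain ⟨hgU, hgP⟩ := Subgroup.mem_inf.1 hg
    obtain ⟨hp1, hp2⟩ := h.pow_layer hp3 hn h1 hgP
    have hW : g ^ p ∈ powClosure p U ⊓ P S (i + p - 1) :=
      ⟨Subgroup.subset_closure ⟨g, hgU, rfl⟩, hp1⟩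
    have hW' : g ^ p ∉ powClosure p U ⊓ P S (i + p) := fun hc => hp2 hg' (by omega) hc.2
    have hstep : p * Nat.card (powClosure p U ⊓ P S (i + p) : Subgroup S) ≤
        Nat.card (powClosure p U ⊓ P S (i + p - 1) : Subgroup S) := by
      obtain ⟨a, ha⟩ := IsPGroup.iff_card.1 (h.isPGroup.to_subgroup (powClosure p U ⊓ P S (i + p)))
      obtain ⟨b, hb⟩ := IsPGroup.iff_card.1 (h.isPGroup.to_subgroup (powClosure p U ⊓ P S (i + p - 1)))
      have hne : Nat.card (powClosure p U ⊓ P S (i + p) : Subgroup S) ≠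
          Nat.card (powClosure p U ⊓ P S (i + p - 1) : Subgroup S) := fun hc =>
        hW' (Subgroup.eq_of_le_of_card_ge hWle hc.ge ▸ hW)
      have hlt := lt_of_le_of_ne (Subgroup.card_le_of_le hWle) hne
      rw [ha, hb, Nat.pow_lt_pow_iff_right hp.out.one_lt] at hlt
      rw [ha, hb, ← pow_succ']
      exact Nat.pow_le_pow_right hp.out.pos hlt
    have hUstep : Nat.card (U ⊓ P S i : Subgroup S) ≤ p * Nat.card (U ⊓ P S (i + 1) : Subgroup S) := by
      have h2 := Subgroup.relIndex_dvd_index_of_normal ((P S (i + 1)).subgroupOf (P S i))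
        ((U ⊓ P S i).subgroupOf (P S i))
      have h3 : ((P S (i + 1)).subgroupOf (P S i)).index = p := by
        have h4 := ((P S (i + 1)).subgroupOf (P S i)).card_mul_index
        rw [Nat.card_congr (Subgroup.subgroupOfEquivOfLe (P_succ_le i)).toEquiv,
          h.card_P (by omega) (by omega), h.card_P h1 (by omega)] at h4
        refine Nat.eq_of_mul_eq_mul_left (pow_pos hp.out.pos (n - (i + 1))) (h4.trans ?_)
        rw [← pow_succ]; congr 1; omega
      rw [Subgroup.relIndex_subgroupOf inf_le_right, h3] at h2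
      have h5 := Subgroup.relIndex_mul_relIndex ⊥ _ (U ⊓ P S i) bot_le
        (inf_le_inf_left U (P_succ_le i))
      rw [Subgroup.relIndex_bot_left, Subgroup.relIndex_bot_left] at h5
      have h6 : (U ⊓ P S (i + 1)).relIndex (U ⊓ P S i) = (P S (i + 1)).relIndex (U ⊓ P S i) := by
        rw [← Subgroup.inf_relIndex_right (P S (i + 1)) (U ⊓ P S i)]
        congr 1
        rw [← inf_assoc, inf_comm (P S (i + 1)) U, inf_assoc, inf_eq_left.2 (P_succ_le i)]
      rw [← h5, h6, Nat.mul_comm]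
      exact Nat.mul_le_mul_right _ (Nat.le_of_dvd hp.out.pos h2)
    refine hUstep.trans (le_trans (Nat.mul_le_mul_left p ih') ?_)
    rw [Nat.mul_left_comm]
    exact Nat.mul_le_mul_left _ hstep

/-- `|H : ℧(H)| ≤ p ^ p`. -/
theorem MC.card_le_powClosure (hp3 : 3 ≤ p) (H : Subgroup S) :
    Nat.card H ≤ p ^ p * Nat.card (powClosure p H) := by
  have hpos : 0 < Nat.card (powClosure p H) := Nat.card_pos
  obtain ⟨e, he⟩ := IsPGroup.iff_card.1 (h.isPGroup.to_subgroup H)
  rcases Nat.lt_or_ge p e with hpe | hpe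
  swap
  · rw [he]
    exact (Nat.pow_le_pow_right hp.out.pos hpe).trans (Nat.le_mul_of_pos_right _ hpos)
  have hen : e ≤ n := by
    have := Subgroup.card_le_of_le (le_top : H ≤ ⊤)
    rwa [he, Subgroup.card_top, h.card, Nat.pow_le_pow_iff_right hp.out.one_lt] at this
  rcases Nat.lt_or_ge (p + 1) n with hn | hn
  · have h1 : Nat.card (H ⊓ P S 1 : Subgroup S) * p ≥ Nat.card H := by
      have h2 := Subgroup.relIndex_dvd_index_of_normal (P S 1) H
      rw [h.index_P_one] at h2
      have h5 := Subgroup.relIndex_mul_relIndex ⊥ _ H bot_le (inf_le_left : H ⊓ P S 1 ≤ H)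
      rw [Subgroup.relIndex_bot_left, Subgroup.relIndex_bot_left] at h5
      have h6 : (H ⊓ P S 1).relIndex H = (P S 1).relIndex H := by
        rw [inf_comm, Subgroup.inf_relIndex_right]
      rw [← h5, h6]
      exact Nat.mul_le_mul_left _ (Nat.le_of_dvd hp.out.pos h2)
    have h2 := h.card_inf_P_le hp3 hn (H ⊓ P S 1) (n - 1) 1 (by omega) le_rfl
    rw [inf_assoc, inf_idem] at h2
    have h3 : powClosure p (H ⊓ P S 1) ⊓ P S (1 + p - 1) ≤ powClosure p H :=
      inf_le_left.trans (Subgroup.closure_mono fun y ⟨g, hg, hy⟩ => ⟨g, hg.1, hy⟩)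
    refine le_trans h1 (le_trans (Nat.mul_le_mul_right p (h2.trans
      (Nat.mul_le_mul_left _ (Subgroup.card_le_of_le h3)))) ?_)
    rw [Nat.mul_right_comm, ← pow_succ, show p - 1 + 1 = p by omega]
  · have hH : H = ⊤ := Subgroup.eq_top_of_card_eq _ (by
      rw [he, h.card, show e = n by omega])
    obtain ⟨g, hg⟩ := h.exists_pow_ne_one hp3 (by omega)
    have hgm : g ^ p ∈ powClosure p H := Subgroup.subset_closure ⟨g, hH ▸ Subgroup.mem_top g, rfl⟩
    obtain ⟨a, ha⟩ := IsPGroup.iff_card.1 (h.isPGroup.to_subgroup (powClosure p H))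
    have ha1 : a ≠ 0 := by
      rintro rfl
      rw [pow_zero, Subgroup.card_eq_one] at ha
      exact hg (Subgroup.mem_bot.1 (ha ▸ hgm))
    rw [he, ha, ← pow_add]
    exact Nat.pow_le_pow_right hp.out.pos (by omega)

/-- Every subgroup needs at most `p` generators. -/
theorem MC.exists_generators (hp3 : 3 ≤ p) (H : Subgroup S) :
    ∃ T : Finset S, T.card ≤ p ∧ Subgroup.closure (T : Set S) = H := by
  classical
  have hH := h.isPGroup.to_subgroup H
  have hle : powClosure p H ≤ (frattini H).map H.subtype :=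
    (Subgroup.closure_le _).2 fun _ ⟨g, hg, hy⟩ =>
      ⟨(⟨g, hg⟩ : H) ^ p, PGroups.pow_mem_frattini hH _, hy.symm⟩
  have h1 := Subgroup.card_le_of_le hle
  rw [Subgroup.card_map_of_injective H.subtype_injective] at h1
  have h2 := (h.card_le_powClosure hp3 H).trans (Nat.mul_le_mul_left _ h1)
  rw [← Subgroup.index_mul_card (frattini H)] at h2
  obtain ⟨T, hT, hT'⟩ := Elem70.GenBound.exists_generators hH p
    (Nat.le_of_mul_le_mul_right h2 Nat.card_pos)
  refine ⟨T.image H.subtype, Finset.card_image_le.trans hT, ?_⟩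
  rw [Finset.coe_image, ← MonoidHom.map_closure, hT', ← MonoidHom.range_eq_map, Subgroup.range_subtype]

/-- `P k / P (2 k + 1)` is abelian of exponent `p` for `k + 2 ≤ p`. -/
theorem MC.section_elemAb (hp3 : 3 ≤ p) {k : ℕ} (hk : 2 ≤ k) (hkp : k + 2 ≤ p) (hkn : 2 * k + 1 ≤ n) :
    (∀ a ∈ P S k, a ^ p ∈ P S (2 * k + 1)) ∧
      ∀ a ∈ P S k, ∀ b ∈ P S k, ⁅a, b⁆ ∈ P S (2 * k + 1) := by
  obtain ⟨t, ht⟩ := h.exists_uniform hp3
  refine ⟨fun a ha => P_anti (by omega) (MC.Uniform.pow_mem h ht hk ha), fun a ha b hb => ?_⟩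
  rw [show 2 * k + 1 = k + k + 1 by omega]
  rcases Nat.lt_or_ge (2 * k + 1) n with hlt | hge
  · exact h.deg_sub_two hp3 k k (by omega) (by omega) (by omega) a ha b hb
  · exact h.deg hp3 (Or.inl ⟨k, by omega⟩) k k (by omega) (by omega) (by omega) a ha b hb

end Cfsg.Agent.Lib.MaxClass
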