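import Cfsg.Agent.Lib.PGroups.MaximalClass
import Cfsg.Agent.Lib.PGroupTheory.Poly

/-!
# `p`-groups of maximal class: the series `P i`, two-step centralisers, coordinates

Owner: helper2.

`MC p n S`: `S` has order `p ^ n`, `4 ≤ n`, and `γ_{n-1}(S) ≠ 1`.
`P S i`: `P 0 = ⊤`, `P 1` the centraliser of `P 2` modulo `P 4`, `P i = γ_i(S)` for `i ≥ 2`.
-/

set_option autoImplicit false
set_option linter.style.haveILetI false
set_option linter.unusedSectionVars false

open scoped commutatorElement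

namespace Cfsg.Agent.Lib.MaxClass

universe u

variable {p n : ℕ} [hp : Fact p.Prime] {S : Type u} [Group S] [Finite S]

/-- `S` has order `p ^ n` and maximal class, `n ≥ 4`. -/
structure MC (p n : ℕ) (S : Type u) [Group S] : Prop where
  card : Nat.card S = p ^ n
  four_le : 4 ≤ n
  ne_bot : (⊤ : Subgroup S).lowerCentralSeries (n - 2) ≠ ⊥

/-- The lower central series with first index `0`. -/
abbrev lcs (S : Type u) [Group S] (i : ℕ) : Subgroup S := (⊤ : Subgroup S).lowerCentralSeries i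

omit [Finite S] in
theorem lcs_normal (i : ℕ) : (lcs S i).Normal := inferInstance

/-- `{g | ⁅A, g⁆ ≤ B}` for normal `A`, `B`. -/
def relCentralizer (A B : Subgroup S) [A.Normal] [B.Normal] : Subgroup S :=
  (Subgroup.centralizer ((A.map (QuotientGroup.mk' B) : Subgroup (S ⧸ B)) : Set (S ⧸ B))).comap
    (QuotientGroup.mk' B)

omit [Finite S] in
theorem mem_relCentralizer {A B : Subgroup S} [A.Normal] [B.Normal] {g : S} :
    g ∈ relCentralizer A B ↔ ∀ a ∈ A, ⁅a, g⁆ ∈ B := by
  rw [relCentralizer, Subgroup.mem_comap, Subgroup.mem_centralizer_iff]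
  constructor
  · intro h a ha
    refine (QuotientGroup.eq_one_iff _).1 ?_
    change QuotientGroup.mk' B ⁅a, g⁆ = 1
    rw [map_commutatorElement, commutatorElement_eq_one_iff_mul_comm]
    exact h _ ⟨a, ha, rfl⟩
  · rintro h _ ⟨a, ha, rfl⟩
    rw [← commutatorElement_eq_one_iff_mul_comm, ← map_commutatorElement]
    exact (QuotientGroup.eq_one_iff _).2 (h a ha)

omit [Finite S] in
theorem relCentralizer_normal (A B : Subgroup S) [hA : A.Normal] [hB : B.Normal] :
    (relCentralizer A B).Normal := by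
  refine ⟨fun g hg c => mem_relCentralizer.2 fun a ha => ?_⟩
  have h := hB.conj_mem _ (mem_relCentralizer.1 hg _ (hA.conj_mem a ha c⁻¹)) c
  rw [show c * ⁅c⁻¹ * a * c⁻¹⁻¹, g⁆ * c⁻¹ = ⁅a, c * g * c⁻¹⁆ by group] at h
  exact h

/-- The series. -/
def P (S : Type u) [Group S] : ℕ → Subgroup S
  | 0 => ⊤
  | 1 => relCentralizer (lcs S 1) (lcs S 3)
  | i + 2 => lcs S (i + 1)

omit [Finite S] in
instance P_normal (i : ℕ) : (P S i).Normal := by
  match i with
  | 0 => show (⊤ : Subgroup S).Normal; infer_instance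
  | 1 => exact relCentralizer_normal _ _
  | i + 2 => exact lcs_normal _

theorem P_zero : P S 0 = ⊤ := rfl

theorem P_two_add (i : ℕ) : P S (i + 2) = lcs S (i + 1) := rfl

theorem P_eq_lcs {i : ℕ} (h : 2 ≤ i) : P S i = lcs S (i - 1) := by
  obtain ⟨k, rfl⟩ := Nat.exists_eq_add_of_le' h
  rfl

theorem commutator_P_top {i : ℕ} (h : 2 ≤ i) : ⁅P S i, (⊤ : Subgroup S)⁆ = P S (i + 1) := by
  rw [P_eq_lcs h, P_eq_lcs (Nat.le_succ_of_le h), show i + 1 - 1 = i - 1 + 1 by omega]
  rfl

theorem commutator_top_top : ⁅(⊤ : Subgroup S), (⊤ : Subgroup S)⁆ = P S 2 := rfl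

theorem P_two_eq : P S 2 = commutator S := rfl

theorem comm_mem_top (g h : S) : ⁅g, h⁆ ∈ P S 2 :=
  Subgroup.commutator_mem_commutator (Subgroup.mem_top g) (Subgroup.mem_top h)

theorem lcs_one_le_P_one : P S 2 ≤ P S 1 := fun g hg => mem_relCentralizer.2 fun a ha =>
  Cfsg.Agent.Lib.PGroupTheory.commutator_top_lowerCentralSeries_le 1 1
    (Subgroup.commutator_mem_commutator ha hg)

theorem P_succ_le (i : ℕ) : P S (i + 1) ≤ P S i := by
  match i with
  | 0 => exact le_top
  | 1 => exact lcs_one_le_P_one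
  | i + 2 => exact (⊤ : Subgroup S).lowerCentralSeries_antitone (by omega)

theorem P_anti : Antitone (P S) := antitone_nat_of_succ_le P_succ_le

/-- Commutation with a generator raises the level. -/
theorem comm_mem {i : ℕ} (hi : 1 ≤ i) {x : S} (hx : x ∈ P S i) (g : S) : ⁅x, g⁆ ∈ P S (i + 1) := by
  rcases Nat.lt_or_ge i 2 with h | h
  · obtain rfl : i = 1 := by omega
    exact comm_mem_top x g
  · rw [← commutator_P_top h]
    exact Subgroup.commutator_mem_commutator hx (Subgroup.mem_top g)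

theorem comm_mem' {i : ℕ} (hi : 1 ≤ i) {x : S} (hx : x ∈ P S i) (g : S) : ⁅g, x⁆ ∈ P S (i + 1) := by
  rw [← commutatorElement_inv]
  exact inv_mem (comm_mem hi hx g)

section basic

variable (h : MC p n S)
include h

theorem MC.isPGroup : IsPGroup p S := IsPGroup.of_card h.card

theorem MC.nilpotent : Group.IsNilpotent S := h.isPGroup.isNilpotent

theorem MC.class_eq [Group.IsNilpotent S] : Group.nilpotencyClass S = n - 1 := by
  have h4 := h.four_le
  have hnc : ¬ IsMulCommutative S := fun hc => by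
    have := Cfsg.Agent.Lib.PGroups.nilpotencyClass_le_one_of_comm (X := S) hc
    exact h.ne_bot (Subgroup.lowerCentralSeries_eq_bot_iff_nilpotencyClass_le.2 (by omega))
  have := Cfsg.Agent.Lib.PGroups.nilpotencyClass_le_pred n h.card hnc
  refine le_antisymm (by omega) ?_
  by_contra hlt
  exact h.ne_bot (Subgroup.lowerCentralSeries_eq_bot_iff_nilpotencyClass_le.2 (by omega))

theorem MC.lcs_last : lcs S (n - 1) = ⊥ := by
  haveI := h.nilpotent
  exact Subgroup.lowerCentralSeries_eq_bot_iff_nilpotencyClass_le.2 (by rw [h.class_eq])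

theorem MC.P_n : P S n = ⊥ := by
  have h4 := h.four_le
  rw [P_eq_lcs (by omega)]
  exact h.lcs_last

theorem MC.P_eq_bot {i : ℕ} (hi : n ≤ i) : P S i = ⊥ :=
  le_bot_iff.1 ((P_anti hi).trans h.P_n.le)

theorem MC.eq_one {i : ℕ} (hi : n ≤ i) {x : S} (hx : x ∈ P S i) : x = 1 := by
  rwa [h.P_eq_bot hi, Subgroup.mem_bot] at hx

theorem MC.index_P_two : (P S 2).index = p ^ 2 := by
  haveI := h.nilpotent
  have h4 := h.four_le
  exact Cfsg.Agent.Lib.PGroups.index_commutator_of_class n (by omega) h.card h.class_eq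

theorem MC.card_P_two : Nat.card (P S 2) = p ^ (n - 2) := by
  have h1 := (P S 2).card_mul_index
  rw [h.index_P_two, h.card] at h1
  have h4 := h.four_le
  rw [show p ^ n = p ^ (n - 2) * p ^ 2 by rw [← pow_add]; congr 1; omega] at h1
  exact Nat.eq_of_mul_eq_mul_right (pow_pos hp.out.pos _) h1

theorem MC.lcs_lt {i : ℕ} (hi : i + 1 ≤ n - 1) : lcs S (i + 1) < lcs S i := by
  refine lt_of_le_of_ne ((⊤ : Subgroup S).lowerCentralSeries_antitone (Nat.le_succ i)) fun he => h.ne_bot ?_
  have hstab : ∀ k, lcs S (i + k) = lcs S i := by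
    intro k
    induction k with
    | zero => rfl
    | succ k ih =>
      show ⁅lcs S (i + k), (⊤ : Subgroup S)⁆ = lcs S i
      rw [ih]; exact he
  have := h.four_le
  have h1 := hstab (n - 1 - i)
  have h2 := hstab (n - 2 - i)
  rw [show i + (n - 1 - i) = n - 1 by omega, h.lcs_last] at h1
  rw [show i + (n - 2 - i) = n - 2 by omega, ← h1] at h2
  exact h2

theorem MC.exists_card_lcs (i : ℕ) : ∃ e, Nat.card (lcs S i) = p ^ e :=
  IsPGroup.iff_card.1 (h.isPGroup.to_subgroup _)

theorem MC.le_card_lcs : ∀ k, k + 1 ≤ n - 1 → p ^ (k + 1) ≤ Nat.card (lcs S (n - 2 - k)) := by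
  intro k
  induction k with
  | zero =>
    intro _
    obtain ⟨e, he⟩ := h.exists_card_lcs (n - 2)
    rw [Nat.sub_zero, he]
    refine Nat.pow_le_pow_right hp.out.pos (Nat.one_le_iff_ne_zero.2 ?_)
    rintro rfl
    exact h.ne_bot (Subgroup.eq_bot_of_card_eq _ (by simpa using he))
  | succ k ih =>
    intro hk
    obtain ⟨e, he⟩ := h.exists_card_lcs (n - 2 - (k + 1))
    have h1 := ih (by omega)
    have h2 := h.lcs_lt (i := n - 2 - (k + 1)) (by omega)
    rw [show n - 2 - (k + 1) + 1 = n - 2 - k by omega] at h2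
    have h3 : Nat.card (lcs S (n - 2 - k)) < Nat.card (lcs S (n - 2 - (k + 1))) := by
      refine lt_of_le_of_ne (Subgroup.card_le_of_le h2.le) fun hc => ?_
      exact h2.ne (Subgroup.eq_of_le_of_card_ge h2.le hc.ge)
    rw [he] at h3 ⊢
    refine Nat.pow_le_pow_right hp.out.pos ?_
    have := (Nat.pow_lt_pow_iff_right hp.out.one_lt).1 (lt_of_le_of_lt h1 h3)
    omega

theorem MC.card_lcs_le : ∀ i, 1 ≤ i → i ≤ n - 1 → Nat.card (lcs S i) ≤ p ^ (n - 1 - i) := by
  intro i
  induction i with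
  | zero => omega
  | succ i ih =>
    intro _ hi
    rcases Nat.eq_zero_or_pos i with rfl | hpos
    · exact le_of_eq (by rw [show n - 1 - (0 + 1) = n - 2 by omega]; exact h.card_P_two)
    have h1 := ih hpos (by omega)
    have h2 := h.lcs_lt (i := i) (by omega)
    obtain ⟨e, he⟩ := h.exists_card_lcs (i + 1)
    obtain ⟨f, hf⟩ := h.exists_card_lcs i
    have h3 : Nat.card (lcs S (i + 1)) < Nat.card (lcs S i) := by
      refine lt_of_le_of_ne (Subgroup.card_le_of_le h2.le) fun hc => ?_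
      exact h2.ne (Subgroup.eq_of_le_of_card_ge h2.le hc.ge)
    rw [he, hf, Nat.pow_lt_pow_iff_right hp.out.one_lt] at h3
    rw [hf, Nat.pow_le_pow_iff_right hp.out.one_lt] at h1
    rw [he, Nat.pow_le_pow_iff_right hp.out.one_lt]
    omega

theorem MC.card_P_ge_two {i : ℕ} (hi : 2 ≤ i) (hin : i ≤ n) : Nat.card (P S i) = p ^ (n - i) := by
  have h4 := h.four_le
  rw [P_eq_lcs hi]
  refine le_antisymm ?_ ?_
  · have := h.card_lcs_le (i - 1) (by omega) (by omega)
    rwa [show n - 1 - (i - 1) = n - i by omega] at this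
  · rcases Nat.eq_or_lt_of_le hin with rfl | hlt
    · rw [Nat.sub_self, pow_zero]
      exact Nat.card_pos
    have := h.le_card_lcs (n - i - 1) (by omega)
    rwa [show n - i - 1 + 1 = n - i by omega, show n - 2 - (n - i - 1) = i - 1 by omega] at this

theorem MC.P_one_ne_top : P S 1 ≠ ⊤ := by
  intro htop
  have h4 := h.four_le
  have hle : P S 3 ≤ P S 4 := by
    rw [← commutator_P_top le_rfl, Subgroup.commutator_le]
    intro a ha g _
    exact mem_relCentralizer.1 (htop ▸ Subgroup.mem_top g : g ∈ P S 1) a ha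
  have := Subgroup.card_le_of_le hle
  rw [h.card_P_ge_two (by omega) (by omega), h.card_P_ge_two (by omega) h4,
    Nat.pow_le_pow_iff_right hp.out.one_lt] at this
  omega

theorem MC.exists_notMem_P_succ_aux {i : ℕ} (h2 : 2 ≤ i) (hin : i < n) :
    ∃ x ∈ P S i, x ∉ P S (i + 1) := by
  by_contra hne
  push Not at hne
  have := Subgroup.card_le_of_le (fun x hx => hne x hx : P S i ≤ P S (i + 1))
  rw [h.card_P_ge_two h2 hin.le, h.card_P_ge_two (by omega) (by omega),
    Nat.pow_le_pow_iff_right hp.out.one_lt] at this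
  omega

theorem MC.index_P_one : (P S 1).index = p := by
  have h4 := h.four_le
  obtain ⟨x, hx, hx3⟩ := h.exists_notMem_P_succ_aux le_rfl (by omega)
  set π := QuotientGroup.mk' (P S 4) with hπ
  have hcent : ∀ g a : S, a ∈ P S 3 → ⁅a, g⁆ ∈ P S 4 := fun g a ha => comm_mem (by omega) ha g
  -- `g ↦ ⁅x, g⁆` is multiplicative modulo `P 4`
  let φ : S →* S ⧸ P S 4 := MonoidHom.mk' (fun g => π ⁅x, g⁆) fun g g' => by
    rw [← map_mul, show ⁅x, g * g'⁆ = ⁅x, g⁆ * ⁅x, g'⁆ * ⁅⁅x, g'⁆⁻¹, g⁆ by group, map_mul]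
    have : π ⁅⁅x, g'⁆⁻¹, g⁆ = 1 := (QuotientGroup.eq_one_iff _).2
      (hcent g _ (inv_mem (comm_mem (by omega) hx g')))
    rw [this, mul_one]
  have hker : φ.ker ≤ P S 1 := by
    intro g hg
    refine mem_relCentralizer.2 fun a ha => ?_
    have hg' : ⁅x, g⁆ ∈ P S 4 := (QuotientGroup.eq_one_iff _).1 hg
    have hsup : P S 2 ≤ P S 3 ⊔ Subgroup.zpowers x := by
      refine (Subgroup.eq_of_le_of_card_ge (sup_le (P_succ_le 2) ((Subgroup.zpowers_le).2 hx)) ?_).ge
      have hlt : P S 3 < P S 3 ⊔ Subgroup.zpowers x := lt_of_le_of_ne le_sup_left fun he =>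
        hx3 (he ▸ Subgroup.mem_sup_right (Subgroup.mem_zpowers x))
      obtain ⟨e, he⟩ := IsPGroup.iff_card.1 (h.isPGroup.to_subgroup (P S 3 ⊔ Subgroup.zpowers x))
      have h1 : Nat.card (P S 3) < Nat.card (P S 3 ⊔ Subgroup.zpowers x : Subgroup S) := by
        refine lt_of_le_of_ne (Subgroup.card_le_of_le hlt.le) fun hc => hlt.ne ?_
        exact Subgroup.eq_of_le_of_card_ge hlt.le hc.ge
      rw [he, h.card_P_ge_two (by omega) (by omega), Nat.pow_lt_pow_iff_right hp.out.one_lt] at h1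
      rw [he, h.card_P_ge_two le_rfl (by omega)]
      exact Nat.pow_le_pow_right hp.out.pos (by omega)
    obtain ⟨b, hb, c, ⟨k, rfl⟩, rfl⟩ := Subgroup.mem_sup_of_normal_left.1 (hsup ha)
    refine (QuotientGroup.eq_one_iff _).1 ?_
    change π ⁅b * x ^ k, g⁆ = 1
    rw [map_commutatorElement, commutatorElement_eq_one_iff_commute, map_mul, map_zpow]
    refine Commute.mul_left ?_ (Commute.zpow_left ?_ k)
    · rw [← commutatorElement_eq_one_iff_commute, ← map_commutatorElement]
      exact (QuotientGroup.eq_one_iff _).2 (hcent g b hb)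
    · rw [← commutatorElement_eq_one_iff_commute, ← map_commutatorElement]
      exact (QuotientGroup.eq_one_iff _).2 hg'
  have hrange : φ.range ≤ (P S 3).map π := by
    rintro _ ⟨g, rfl⟩
    exact ⟨⁅x, g⁆, comm_mem (by omega) hx g, rfl⟩
  have hcard : Nat.card ((P S 3).map π) = p := by
    have h1 := ((P S 4).subgroupOf (P S 3)).card_mul_index
    rw [Nat.card_congr (Subgroup.subgroupOfEquivOfLe (P_succ_le 3)).toEquiv,
      h.card_P_ge_two (by omega) h4, h.card_P_ge_two (by omega) (by omega)] at h1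
    have h2 : ((P S 4).subgroupOf (P S 3)).index = p := by
      refine Nat.eq_of_mul_eq_mul_left (pow_pos hp.out.pos (n - 4)) (h1.trans ?_)
      rw [← pow_succ]; congr 1; omega
    rw [← MonoidHom.domRestrict_range, ← Subgroup.index_ker, MonoidHom.ker_domRestrict, hπ, QuotientGroup.ker_mk']
    exact h2
  have hle : (P S 1).index ≤ p := by
    rw [← hcard]
    refine le_trans ?_ (Subgroup.card_le_of_le hrange)
    rw [← Subgroup.index_ker]
    exact Nat.le_of_dvd (Nat.pos_of_ne_zero Subgroup.index_ne_zero_of_finite) (Subgroup.index_dvd_of_le hker)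
  obtain ⟨e, he⟩ := h.isPGroup.index (P S 1)
  rw [he] at hle ⊢
  rcases Nat.eq_zero_or_pos e with rfl | hpos
  · exact absurd (Subgroup.index_eq_one.1 (by simpa using he)) h.P_one_ne_top
  · have := (Nat.pow_le_pow_iff_right hp.out.one_lt).1 (hle.trans_eq (pow_one p).symm)
    rw [show e = 1 by omega, pow_one]

theorem MC.card_P {i : ℕ} (hi : 1 ≤ i) (hin : i ≤ n) : Nat.card (P S i) = p ^ (n - i) := by
  rcases Nat.eq_or_lt_of_le hi with rfl | h2
  · have h1 := (P S 1).card_mul_index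
    have h4 := h.four_le
    rw [h.index_P_one, h.card] at h1
    refine Nat.eq_of_mul_eq_mul_right hp.out.pos (h1.trans ?_)
    rw [← pow_succ]; congr 1; omega
  · exact h.card_P_ge_two h2 hin

theorem MC.exists_notMem_succ {i : ℕ} (hi : 1 ≤ i) (hin : i < n) : ∃ x ∈ P S i, x ∉ P S (i + 1) := by
  by_contra hne
  push Not at hne
  have := Subgroup.card_le_of_le (fun x hx => hne x hx : P S i ≤ P S (i + 1))
  rw [h.card_P hi hin.le, h.card_P (by omega) (by omega),
    Nat.pow_le_pow_iff_right hp.out.one_lt] at this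
  omega

/-- A subgroup strictly above `P (i+1)` inside `P i` is `P i`. -/
theorem MC.sup_zpowers_eq {i : ℕ} (hi : 1 ≤ i) (hin : i < n) {x : S} (hx : x ∈ P S i)
    (hx' : x ∉ P S (i + 1)) : P S (i + 1) ⊔ Subgroup.zpowers x = P S i := by
  refine Subgroup.eq_of_le_of_card_ge (sup_le (P_succ_le i) ((Subgroup.zpowers_le).2 hx)) ?_
  have hlt : P S (i + 1) < P S (i + 1) ⊔ Subgroup.zpowers x := lt_of_le_of_ne le_sup_left fun he =>
    hx' (he ▸ Subgroup.mem_sup_right (Subgroup.mem_zpowers x))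
  obtain ⟨e, he⟩ := IsPGroup.iff_card.1 (h.isPGroup.to_subgroup (P S (i + 1) ⊔ Subgroup.zpowers x))
  have h1 : Nat.card (P S (i + 1)) < Nat.card (P S (i + 1) ⊔ Subgroup.zpowers x : Subgroup S) := by
    refine lt_of_le_of_ne (Subgroup.card_le_of_le hlt.le) fun hc => hlt.ne ?_
    exact Subgroup.eq_of_le_of_card_ge hlt.le hc.ge
  rw [he, h.card_P (by omega) hin, Nat.pow_lt_pow_iff_right hp.out.one_lt] at h1
  rw [he, h.card_P hi hin.le]
  exact Nat.pow_le_pow_right hp.out.pos (by omega)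

/-- Coordinates in the layer `P i / P (i+1)`. -/
theorem MC.exists_coord {i : ℕ} (hi : 1 ≤ i) (hin : i < n) {y : S} (hy : y ∈ P S i)
    (hy' : y ∉ P S (i + 1)) {x : S} (hx : x ∈ P S i) : ∃ a : ℤ, ∃ r ∈ P S (i + 1), x = r * y ^ a := by
  rw [← h.sup_zpowers_eq hi hin hy hy'] at hx
  obtain ⟨r, hr, c, ⟨a, rfl⟩, rfl⟩ := Subgroup.mem_sup_of_normal_left.1 hx
  exact ⟨a, r, hr, rfl⟩

theorem MC.pow_mem_succ {i : ℕ} {x : S} (hx : x ∈ P S i) : x ^ p ∈ P S (i + 1) := by
  rcases Nat.lt_or_ge i n with hin | hin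
  · rcases Nat.eq_zero_or_pos i with rfl | hi
    · have := Subgroup.pow_index_mem (P S 1) x
      rwa [h.index_P_one] at this
    have h1 := ((P S (i + 1)).subgroupOf (P S i)).card_mul_index
    rw [Nat.card_congr (Subgroup.subgroupOfEquivOfLe (P_succ_le i)).toEquiv,
      h.card_P (by omega) hin, h.card_P hi hin.le] at h1
    have h2 : ((P S (i + 1)).subgroupOf (P S i)).index = p := by
      refine Nat.eq_of_mul_eq_mul_left (pow_pos hp.out.pos (n - (i + 1))) (h1.trans ?_)
      rw [← pow_succ]; congr 1; omega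
    have h3 := Subgroup.pow_index_mem ((P S (i + 1)).subgroupOf (P S i)) ⟨x, hx⟩
    rw [h2] at h3
    exact h3
  · rw [h.eq_one hin hx, one_pow]
    exact one_mem _

/-- A proper subgroup containing an index `p` subgroup equals it. -/
theorem MC.eq_of_index_prime {A B : Subgroup S} (hA : A.index = p) (hAB : A ≤ B) (hB : B ≠ ⊤) :
    A = B := by
  have h1 := Subgroup.index_dvd_of_le hAB
  rw [hA] at h1
  rcases (Nat.dvd_prime hp.out).1 h1 with h2 | h2
  · exact absurd (Subgroup.index_eq_one.1 h2) hB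
  refine Subgroup.eq_of_le_of_card_ge hAB (le_of_eq ?_)
  exact Nat.eq_of_mul_eq_mul_right hp.out.pos (by
    rw [← h2, Subgroup.card_mul_index, h2, ← hA, Subgroup.card_mul_index])

end basic

end Cfsg.Agent.Lib.MaxClass
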