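import Cfsg.Agent.Lib.MaxClass.Pearl
import Cfsg.Agent.Lib.Resistant67.Basic
import Cfsg.Agent.Lib.FusionEssential.SmallOrder
import Cfsg.Agent.Lib.IndexP

/-!
# Essential subgroups through an element with centraliser of order `p ^ 2`

Owner: helper2.  An essential subgroup has no invariant series with steps of order `p`.  Consequently an
essential subgroup `E` of a group of maximal class containing `y` with `|C(y)| = p ^ 2` meets every
normal subgroup `N ∌ y` above the centre in a subgroup which some automorphism moves.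
-/

set_option autoImplicit false
set_option linter.style.haveILetI false
set_option linter.unusedSectionVars false

open scoped commutatorElement
open Cfsg Cfsg.FusionSystem

namespace Cfsg.Agent.Lib.MaxClass

universe u

section chain

variable {Ω : Type*} [Group Ω] {S : Subgroup Ω} [Finite S] {p : ℕ} [hp : Fact p.Prime] {F : FusionSystem S}
  {E : Subgroup Ω}

/-- An essential subgroup has no invariant series with steps of order `p`. -/
theorem false_of_chain (hS : IsPGroup p S) (hF : F.IsSaturated p) (hE : F.IsEssential p E)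
    (L : ℕ → Subgroup E) {m : ℕ} (h0 : L 0 = ⊤) (hm : L m = ⊥)
    (hinv : ∀ γ ∈ F.autGroup E, ∀ k, ∀ x ∈ L k, γ x ∈ L k)
    (hstep : ∀ k < m, L (k + 1) ≤ L k ∧ Nat.card (L k) = p * Nat.card (L (k + 1))) : False := by
  classical
  have hES : E ≤ S := hE.2.1.1
  haveI := FS.finite_sub hES
  have hEp := FS.isPGroup_of_le hS hES
  have hnorm : ∀ k, (L k).Normal := fun k => ⟨fun x hx c => by
    have := hinv (MulAut.conj c) (FS.inn_le_autGroup F hES ⟨c, rfl⟩) k x hx
    simpa using this⟩
  have hgen : ∀ k < m, ∃ u : E, u ^ p ∈ L (k + 1) ∧ L k = Subgroup.zpowers u ⊔ L (k + 1) := by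
    intro k hk
    obtain ⟨hle, hc⟩ := hstep k hk
    obtain ⟨u, hu, hu'⟩ : ∃ u ∈ L k, u ∉ L (k + 1) := SetLike.exists_of_lt (lt_of_le_of_ne hle fun he => by
      rw [he] at hc
      have := hp.out.two_le
      have hpos : 0 < Nat.card (L k) := Nat.card_pos
      nlinarith)
    refine ⟨u, ?_, ?_⟩
    · haveI := hnorm (k + 1)
      have hidx : ((L (k + 1)).subgroupOf (L k)).index = p := by
        have h1 := ((L (k + 1)).subgroupOf (L k)).card_mul_index
        rw [Nat.card_congr (Subgroup.subgroupOfEquivOfLe hle).toEquiv, hc, Nat.mul_comm p] at h1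
        exact Nat.eq_of_mul_eq_mul_left Nat.card_pos h1
      have := Subgroup.pow_index_mem ((L (k + 1)).subgroupOf (L k)) ⟨u, hu⟩
      rwa [hidx] at this
    · have hsup : Subgroup.zpowers u ⊔ L (k + 1) ≤ L k := sup_le ((Subgroup.zpowers_le).2 hu) hle
      refine (Subgroup.eq_of_le_of_card_ge hsup ?_).symm
      obtain ⟨q, hq⟩ := Subgroup.card_dvd_of_le (le_sup_right : L (k + 1) ≤ Subgroup.zpowers u ⊔ L (k + 1))
      have h1 := Subgroup.card_dvd_of_le hsup
      rw [hq, hc, Nat.mul_comm p] at h1
      rcases (Nat.dvd_prime hp.out).1 ((Nat.mul_dvd_mul_iff_left Nat.card_pos).1 h1) with rfl | rfl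
      · rw [mul_one] at hq
        exact absurd (Subgroup.eq_of_le_of_card_ge (le_sup_right : L (k + 1) ≤ _) hq.le ▸
          Subgroup.mem_sup_left (Subgroup.mem_zpowers u)) hu'
      · rw [hc, hq, Nat.mul_comm]
  let K : Subgroup (F.autGroup E) :=
    { carrier := {γ | ∀ k < m, ∀ x ∈ L k, x⁻¹ * (γ : MulAut E) x ∈ L (k + 1)}
      one_mem' := fun k _ x _ => by simp
      mul_mem' := fun {a b} ha hb k hk x hx => by
        have e : x⁻¹ * ((a : MulAut E) * (b : MulAut E)) x =
            (x⁻¹ * (b : MulAut E) x) * (((b : MulAut E) x)⁻¹ * (a : MulAut E) ((b : MulAut E) x)) := by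
          rw [MulAut.mul_apply]; group
        rw [Subgroup.coe_mul, e]
        exact mul_mem (hb k hk x hx) (ha k hk _ (hinv _ b.2 k x hx))
      inv_mem' := fun {a} ha k hk x hx => by
        have e : x⁻¹ * ((a : MulAut E)⁻¹) x =
            (((a : MulAut E)⁻¹ x)⁻¹ * (a : MulAut E) ((a : MulAut E)⁻¹ x))⁻¹ := by
          rw [MulAut.apply_inv_self]; group
        rw [Subgroup.coe_inv, e]
        exact inv_mem (ha k hk _ (hinv _ (inv_mem a.2) k x hx)) }
  have hKn : K.Normal := ⟨fun a ha γ k hk x hx => by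
    set y := (γ : MulAut E)⁻¹ x with hy
    have e : x⁻¹ * ((γ * a * γ⁻¹ : F.autGroup E) : MulAut E) x =
        (γ : MulAut E) (y⁻¹ * (a : MulAut E) y) := by
      rw [map_mul, map_inv, hy, MulAut.apply_inv_self]
      simp [MulAut.mul_apply]
    rw [e]
    exact hinv _ γ.2 _ _ (ha k hk y (hinv _ (inv_mem γ.2) k x hx))⟩
  have hKp : IsPGroup p K := by
    refine FusionEssential.PClosed.isPGroup_of_coprime_trivial K fun a ha hco => ?_
    refine Subtype.ext (MulEquiv.ext fun x => ?_)
    refine FusionEssential.SmallOrder.fixed_of_series hEp (a : MulAut E) (by rwa [Subgroup.orderOf_coe])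
      (fun i => if i < m then L i else ⊥) (n := m) (if_neg (lt_irrefl m)) (fun i z hz => ?_) x ?_
    · split_ifs at hz with hi
      · split_ifs with hi'
        · exact ha i hi z hz
        · have := ha i hi z hz
          rwa [show i + 1 = m by omega, hm] at this
      · rw [Subgroup.mem_bot.1 hz]
        simp
    · show x ∈ (if 0 < m then L 0 else ⊥)
      split_ifs with h
      · rw [h0]; exact Subgroup.mem_top x
      · rw [← hm, show m = 0 by omega, h0]; exact Subgroup.mem_top x
  obtain ⟨g, hg⟩ := Resistant67.exists_normalizer_not_mem hS hF hE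
  refine hg (Resistant67.mem_of_normal_pGroup hS hF hE K hKn hKp ?_)
  intro k hk x hx
  obtain ⟨u, hu, hLu⟩ := hgen k hk
  haveI := hnorm (k + 1)
  have huk : u ∈ L k := hLu ▸ Subgroup.mem_sup_left (Subgroup.mem_zpowers u)
  exact Resistant67.step_trivial (Resistant67.conjN_pow_eq_one hS hES g) (L (k + 1))
    (fun z hz => hinv _ (Resistant67.conjN F hES g).2 _ z hz) hu
    (hLu ▸ hinv _ (Resistant67.conjN F hES g).2 k u huk) x (hLu ▸ hx)

end chain

section group

variable {p : ℕ} [hp : Fact p.Prime] {X : Type u} [Group X] [Finite X]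

theorem lcs_map_mulEquiv (e : X ≃* X) (i : ℕ) {x : X} (hx : x ∈ lcs X i) : e x ∈ lcs X i := by
  have h := Subgroup.mem_map_of_mem e.toMonoidHom hx
  rwa [lcs, Subgroup.map_lowerCentralSeries, Subgroup.map_top_of_surjective _ e.surjective] at h

theorem P_map_mulEquiv (e : X ≃* X) : ∀ (i : ℕ) {x : X}, x ∈ P X i → e x ∈ P X i
  | 0, _, _ => Subgroup.mem_top _
  | 1, x, hx => mem_relCentralizer.2 fun a ha => by
    have h1 := lcs_map_mulEquiv e 3 (mem_relCentralizer.1 hx _ (lcs_map_mulEquiv e.symm 1 ha))
    rwa [map_commutatorElement, e.apply_symm_apply] at h1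
  | i + 2, _, hx => lcs_map_mulEquiv e (i + 1) hx

/-- The structure of a subgroup containing its centraliser and an element `y` with `|C(y)| = p ^ 2`. -/
theorem card_cases_of_uniform (hX : IsPGroup p X) (hZ : Nat.card (Subgroup.center X) = p) {y : X}
    (hy : Nat.card (Subgroup.centralizer ({y} : Set X)) = p ^ 2) (hy' : y ∉ Subgroup.center X)
    {E : Subgroup X} (hyE : y ∈ E) (hC : Subgroup.centralizer (E : Set X) ≤ E) :
    Subgroup.center X ≤ E ∧ Subgroup.centralizer ({y} : Set X) ≤ E ∧
    (Nat.card E = p ^ 2 ∨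
      (Nat.card E = p ^ 3 ∧ Subgroup.normalizer ((Subgroup.centralizer ({y} : Set X) : Subgroup X) : Set X) = E ∧
        Subgroup.centralizer (E : Set X) = Subgroup.center X) ∨
      ∃ k, MC p k E) := by
  set A := Subgroup.centralizer ({y} : Set X) with hA
  have hZE : Subgroup.center X ≤ E := (Subgroup.center_le_centralizer _).trans hC
  have hyA : y ∈ A := Subgroup.mem_centralizer_singleton_iff.2 rfl
  have hgen : Subgroup.center X ⊔ Subgroup.zpowers y = A := by
    have hle : Subgroup.center X ⊔ Subgroup.zpowers y ≤ A :=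
      sup_le (Subgroup.center_le_centralizer _) ((Subgroup.zpowers_le).2 hyA)
    refine Subgroup.eq_of_le_of_card_ge hle ?_
    obtain ⟨i, hi⟩ := IsPGroup.iff_card.1 (hX.to_subgroup (Subgroup.center X ⊔ Subgroup.zpowers y))
    have hlt : Nat.card (Subgroup.center X) < Nat.card (Subgroup.center X ⊔ Subgroup.zpowers y : Subgroup X) :=
      lt_of_le_of_ne (Subgroup.card_le_of_le le_sup_left) fun hc => hy'
        ((Subgroup.eq_of_le_of_card_ge (le_sup_left : Subgroup.center X ≤ _) hc.ge) ▸
          Subgroup.mem_sup_right (Subgroup.mem_zpowers y))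
    rw [hy, hi]
    rw [hZ, hi] at hlt
    refine Nat.pow_le_pow_right hp.out.pos ?_
    by_contra h2
    have := Nat.pow_le_pow_right hp.out.pos (show i ≤ 1 by omega)
    rw [pow_one] at this
    omega
  have hAE : A ≤ E := hgen ▸ sup_le hZE ((Subgroup.zpowers_le).2 hyE)
  have hAcomm : ∀ a ∈ A, ∀ b ∈ A, Commute a b := fun a ha b hb => by
    have : b ∈ Subgroup.centralizer ({a} : Set X) := (sup_le (fun z hz =>
      Subgroup.mem_centralizer_singleton_iff.2 (Subgroup.mem_center_iff.1 hz a).symm) ((Subgroup.zpowers_le).2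
        (Subgroup.mem_centralizer_singleton_iff.2 (Subgroup.mem_centralizer_singleton_iff.1 ha).symm)) :
      Subgroup.center X ⊔ Subgroup.zpowers y ≤ _) (hgen.symm ▸ hb)
    exact (Subgroup.mem_centralizer_singleton_iff.1 this).symm
  refine ⟨hZE, hAE, ?_⟩
  obtain ⟨m, hm⟩ := IsPGroup.iff_card.1 (hX.to_subgroup E)
  have hm2 : 2 ≤ m := by
    have := Subgroup.card_le_of_le hAE
    rwa [hy, hm, Nat.pow_le_pow_iff_right hp.out.one_lt] at this
  rcases (by omega : m = 2 ∨ m = 3 ∨ 4 ≤ m) with rfl | rfl | h4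
  · exact Or.inl hm
  · refine Or.inr (Or.inl ⟨hm, ?_, ?_⟩)
    · have hEN : E ≤ Subgroup.normalizer (A : Set X) := by
        intro e he
        have hidx : (A.subgroupOf E).index = p := by
          have h1 := (A.subgroupOf E).card_mul_index
          rw [Nat.card_congr (Subgroup.subgroupOfEquivOfLe hAE).toEquiv, hy, hm] at h1
          exact Nat.eq_of_mul_eq_mul_left (pow_pos hp.out.pos 2) (h1.trans (pow_succ p 2))
        have hn := IndexP.normal_of_index (hX.to_subgroup E) (A.subgroupOf E) hidx
        have key : ∀ f ∈ E, ∀ a ∈ A, f * a * f⁻¹ ∈ A := fun f hf a ha =>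
          Subgroup.mem_subgroupOf.1 (hn.conj_mem ⟨a, hAE ha⟩ (Subgroup.mem_subgroupOf.2 ha) ⟨f, hf⟩)
        refine Subgroup.mem_normalizer_iff.2 fun a => ⟨key e he a, fun ha => ?_⟩
        have := key e⁻¹ (inv_mem he) _ ha
        rwa [show e⁻¹ * (e * a * e⁻¹) * e⁻¹⁻¹ = a by group] at this
      refine (Subgroup.eq_of_le_of_card_ge hEN ?_).symm
      set N := Subgroup.normalizer (A : Set X) with hN
      have hAN : A ≤ N := Subgroup.le_normalizer
      obtain ⟨k, hk⟩ := IsPGroup.iff_card.1 (hX.to_subgroup N)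
      -- the conjugates of `y` under `N`
      let f : N ⧸ A.subgroupOf N → {a : A // a ≠ 1} := fun q => Quotient.liftOn' q
        (fun g => ⟨⟨g * y * (g : X)⁻¹, (Subgroup.mem_normalizer_iff.1 g.2 y).1 hyA⟩, fun h1 => hy' (by
          have h2 : (g : X) * y * (g : X)⁻¹ = 1 := congrArg Subtype.val h1
          rw [mul_inv_eq_one, mul_eq_left] at h2
          rw [h2]; exact one_mem _)⟩)
        (fun a b hab => by
          rw [QuotientGroup.leftRel_apply, Subgroup.mem_subgroupOf, hA,
            Subgroup.mem_centralizer_singleton_iff] at hab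
          refine Subtype.ext (Subtype.ext ?_)
          show (a : X) * y * (a : X)⁻¹ = b * y * (b : X)⁻¹
          calc (a : X) * y * (a : X)⁻¹ = a * (y * ((a⁻¹ * b : N) : X)) * (b : X)⁻¹ := by
                rw [Subgroup.coe_mul, Subgroup.coe_inv]; group
            _ = a * (((a⁻¹ * b : N) : X) * y) * (b : X)⁻¹ := by rw [hab]
            _ = b * y * (b : X)⁻¹ := by rw [Subgroup.coe_mul, Subgroup.coe_inv]; group)
      have hinj : Function.Injective f := by
        intro q r
        induction q using QuotientGroup.induction_on with | H a => ?_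
        induction r using QuotientGroup.induction_on with | H b => ?_
        intro he
        have he1 : (a : X) * y * (a : X)⁻¹ = b * y * (b : X)⁻¹ :=
          congrArg (fun z : {a : A // a ≠ 1} => ((z : A) : X)) he
        refine QuotientGroup.eq.2 (Subgroup.mem_subgroupOf.2 (Subgroup.mem_centralizer_singleton_iff.2 ?_))
        rw [Subgroup.coe_mul, Subgroup.coe_inv]
        calc (a : X)⁻¹ * b * y = (a : X)⁻¹ * (b * y * (b : X)⁻¹) * b := by group
          _ = (a : X)⁻¹ * (a * y * (a : X)⁻¹) * b := by rw [he1]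
          _ = y * ((a : X)⁻¹ * b) := by group
      have h1 := Nat.card_le_card_of_injective f hinj
      have h2 := (A.subgroupOf N).card_mul_index
      rw [Nat.card_congr (Subgroup.subgroupOfEquivOfLe hAN).toEquiv, hy, hk, Subgroup.index_eq_card] at h2
      haveI : Fintype A := Fintype.ofFinite A
      classical
      have h3 : Nat.card {a : A // a ≠ 1} < p ^ 2 := by
        rw [← hy, Nat.card_eq_fintype_card, Nat.card_eq_fintype_card]
        exact Fintype.card_subtype_lt (x := 1) (by simp)
      have h4 : p ^ k < p ^ 2 * p ^ 2 := by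
        rw [← h2]
        exact Nat.mul_lt_mul_of_pos_left (lt_of_le_of_lt h1 h3) (pow_pos hp.out.pos 2)
      rw [← pow_add, Nat.pow_lt_pow_iff_right hp.out.one_lt] at h4
      rw [hk, hm]
      exact Nat.pow_le_pow_right hp.out.pos (by omega)
    · set C := Subgroup.centralizer (E : Set X) with hCdef
      have hle : C ≤ A := Subgroup.centralizer_le (Set.singleton_subset_iff.2 hyE)
      refine (Subgroup.eq_of_le_of_card_ge (Subgroup.center_le_centralizer _) ?_).symm
      rw [hZ]
      obtain ⟨i, hi2, hi⟩ := (Nat.dvd_prime_pow hp.out).1 (hy ▸ Subgroup.card_dvd_of_le hle)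
      rw [hi]
      rcases (by omega : i ≤ 1 ∨ i = 2) with h | rfl
      · exact (Nat.pow_le_pow_right hp.out.pos h).trans_eq (pow_one p)
      · exfalso
        have heq : C = A := Subgroup.eq_of_le_of_card_ge hle (by rw [hi, hy])
        have hEA : E ≤ A := fun e he => Subgroup.mem_centralizer_singleton_iff.2
          (Subgroup.mem_centralizer_iff.1 (heq.symm ▸ hyA : y ∈ C) e he)
        have := Subgroup.card_le_of_le hEA
        rw [hm, hy, Nat.pow_le_pow_iff_right hp.out.one_lt] at this
        omega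
  · refine Or.inr (Or.inr ⟨m, ?_⟩)
    haveI : Group.IsNilpotent E := (hX.to_subgroup E).isNilpotent
    have hA' : Subgroup.centralizer ((A.subgroupOf E : Subgroup E) : Set E) = A.subgroupOf E := by
      refine le_antisymm (fun z hz => Subgroup.mem_subgroupOf.2 (Subgroup.mem_centralizer_singleton_iff.2
        (congrArg Subtype.val (Subgroup.mem_centralizer_iff.1 hz ⟨y, hyE⟩ hyA)).symm)) fun a ha => ?_
      exact Subgroup.mem_centralizer_iff.2 fun b hb => Subtype.ext (hAcomm b hb a ha).eq
    exact MC.of_class h4 hm (PGroups.class_of_self_centralizing_sq m (A.subgroupOf E) hm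
      (by rw [Nat.card_congr (Subgroup.subgroupOfEquivOfLe hAE).toEquiv, hy]) hA')

end group

section fusion

variable {Ω : Type*} [Group Ω] {S : Subgroup Ω} [Finite S] {p : ℕ} [hp : Fact p.Prime] {F : FusionSystem S}
  {E : Subgroup Ω}

/-- An essential subgroup of maximal class of order at least `p ^ 4` does not exist. -/
theorem not_essential_of_mc (hS : IsPGroup p S) (hF : F.IsSaturated p) (hE : F.IsEssential p E) {k : ℕ}
    (h : MC p k E) : False := by
  haveI := FS.finite_sub hE.2.1.1
  refine false_of_chain hS hF hE (P E) (m := k) P_zero h.P_n (fun γ _ i x hx => P_map_mulEquiv γ i hx)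
    fun i hi => ⟨P_succ_le i, ?_⟩
  rcases Nat.eq_zero_or_pos i with rfl | hi0
  · rw [P_zero, Subgroup.card_top, h.card, h.card_P le_rfl (by omega), ← pow_succ']
    congr 1; omega
  · rw [h.card_P hi0 hi.le, h.card_P (by omega) hi, ← pow_succ']
    congr 1; omega

/-- An essential `E` through `y` with `|C_S(y)| = p ^ 2` contradicts an automiser-invariant normal subgroup
above the centre avoiding `y`. -/
theorem not_invariant_of_uniform (hS : IsPGroup p S) (hF : F.IsSaturated p) (hE : F.IsEssential p E)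
    (hZ : Nat.card (Subgroup.center ↥S) = p) {y : S}
    (hy : Nat.card (Subgroup.centralizer ({y} : Set S)) = p ^ 2) (hy' : y ∉ Subgroup.center ↥S)
    (hyE : (y : Ω) ∈ E) (N : Subgroup S) [N.Normal] (hZN : Subgroup.center ↥S < N) (hyN : y ∉ N)
    (hinv : ∀ γ ∈ F.autGroup E, ∀ x : E, (x : Ω) ∈ N.map S.subtype → ((γ x : E) : Ω) ∈ N.map S.subtype) :
    False := by
  have hES : E ≤ S := hE.2.1.1
  haveI := FS.finite_sub hES
  set E' := E.subgroupOf S with hE'
  have hC' : Subgroup.centralizer (E' : Set ↥S) ≤ E' := fun x hx =>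
    Subgroup.mem_subgroupOf.2 (hE.1.2 E (FS.isConj_refl F hES) ⟨x.2, Subgroup.mem_centralizer_iff.2 fun e he =>
      congrArg Subtype.val (Subgroup.mem_centralizer_iff.1 hx ⟨e, hES he⟩ he)⟩)
  let e : E' ≃* E := Subgroup.subgroupOfEquivOfLe hES
  have hce : Nat.card E' = Nat.card E := Nat.card_congr e.toEquiv
  obtain ⟨hZE, hAE, hcase⟩ := card_cases_of_uniform hS hZ hy hy' (E := E') hyE hC'
  -- `W = E ∩ N`
  set W : Subgroup E := (N.map S.subtype).subgroupOf E with hW
  have hWinv : ∀ γ ∈ F.autGroup E, ∀ x ∈ W, γ x ∈ W := hinv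
  have hWc : Nat.card W = Nat.card (E' ⊓ N : Subgroup S) := by
    rw [← Subgroup.card_map_of_injective E.subtype_injective, hW, Subgroup.subgroupOf_map_subtype,
      show N.map S.subtype ⊓ E = (E' ⊓ N).map S.subtype by
        rw [Subgroup.map_inf E' N S.subtype S.subtype_injective, hE', Subgroup.map_subgroupOf_eq_of_le hES,
          inf_comm], Subgroup.card_map_of_injective S.subtype_injective]
  have hlt : Nat.card (E' ⊓ N : Subgroup S) < Nat.card E' := by
    refine lt_of_le_of_ne (Subgroup.card_le_of_le inf_le_left) fun hc => hyN ?_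
    have heq : E' ⊓ N = E' := Subgroup.eq_of_le_of_card_ge inf_le_left hc.ge
    have hy2 : y ∈ E' ⊓ N := heq.symm ▸ hyE
    exact hy2.2
  obtain ⟨a, ha⟩ := IsPGroup.iff_card.1 (hS.to_subgroup (E' ⊓ N))
  have ha1 : 1 ≤ a := by
    have := Subgroup.card_le_of_le (le_inf hZE hZN.le)
    rw [hZ, ha] at this
    refine Nat.one_le_iff_ne_zero.2 fun h0 => ?_
    rw [h0, pow_zero] at this
    exact absurd this (not_le.2 hp.out.one_lt)
  rcases hcase with h2 | ⟨h3, hN, hCE⟩ | ⟨k, hk⟩
  · -- order `p ^ 2`
    rw [ha, h2, Nat.pow_lt_pow_iff_right hp.out.one_lt] at hlt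
    refine false_of_chain hS hF hE (fun i => if i = 0 then ⊤ else if i = 1 then W else ⊥) (m := 2) rfl rfl
      (fun γ hγ i x hx => ?_) fun i hi => ?_
    · by_cases h0 : i = 0
      · subst h0; exact Subgroup.mem_top _
      by_cases h1 : i = 1
      · subst h1; exact hWinv γ hγ x hx
      simp only [if_neg h0, if_neg h1, Subgroup.mem_bot] at hx ⊢
      rw [hx, map_one]
    · have hWp : Nat.card W = p := by rw [hWc, ha, show a = 1 by omega, pow_one]
      obtain rfl | rfl : i = 0 ∨ i = 1 := by omega
      · exact ⟨le_top, by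
          show Nat.card (⊤ : Subgroup E) = p * Nat.card W
          rw [Subgroup.card_top, ← hce, h2, hWp, pow_two]⟩
      · exact ⟨bot_le, by
          show Nat.card W = p * Nat.card (⊥ : Subgroup E)
          rw [hWp, Subgroup.card_bot, mul_one]⟩
  · -- order `p ^ 3`
    rw [ha, h3, Nat.pow_lt_pow_iff_right hp.out.one_lt] at hlt
    have hbig : Subgroup.center ↥S < E' ⊓ N := by
      refine lt_of_le_of_ne (le_inf hZE hZN.le) fun hc => ?_
      obtain ⟨w, hwN, hwZ, hwc⟩ : ∃ w ∈ N, w ∉ Subgroup.center ↥S ∧ ∀ g : S, ⁅g, w⁆ ∈ Subgroup.center ↥S := by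
        set π := QuotientGroup.mk' (Subgroup.center ↥S)
        haveI : (N.map π).Normal := Subgroup.Normal.map inferInstance π (QuotientGroup.mk'_surjective _)
        have hne : N.map π ≠ ⊥ := by
          rw [Ne, Subgroup.map_eq_bot_iff, QuotientGroup.ker_mk']
          exact hZN.not_ge
        obtain ⟨⟨q, hq⟩, hq0⟩ := Subgroup.ne_bot_iff_exists_ne_one.1
          (Cfsg.Agent.Lib.PGroups.normal_inf_center_ne_bot (hS.to_quotient _) _ hne)
        obtain ⟨w, hw, rfl⟩ := hq.1
        refine ⟨w, hw, fun hwZ => hq0 (Subtype.ext ((QuotientGroup.eq_one_iff w).2 hwZ)), fun g => ?_⟩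
        refine (QuotientGroup.eq_one_iff _).1 ?_
        change π ⁅g, w⁆ = 1
        rw [map_commutatorElement, commutatorElement_eq_one_iff_mul_comm]
        exact Subgroup.mem_center_iff.1 hq.2 (π g)
      refine hwZ (hc ▸ ⟨hN ▸ ?_, hwN⟩)
      refine Subgroup.mem_normalizer_iff.2 fun b => ?_
      have key : ∀ b, b ∈ Subgroup.centralizer ({y} : Set S) →
          ∀ v, (∀ g : S, ⁅g, v⁆ ∈ Subgroup.center ↥S) → v * b * v⁻¹ ∈ Subgroup.centralizer ({y} : Set S) :=
        fun b hb v hv => by
          rw [show v * b * v⁻¹ = ⁅b, v⁆⁻¹ * b by group]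
          exact mul_mem (inv_mem (Subgroup.center_le_centralizer _ (hv b))) hb
      refine ⟨fun hb => key b hb w hwc, fun hb => ?_⟩
      have := key _ hb w⁻¹ fun g => by
        rw [show ⁅g, w⁻¹⁆ = w⁻¹ * ⁅g, w⁆⁻¹ * w by group,
          ← (Subgroup.mem_center_iff.1 (inv_mem (hwc g)) w⁻¹).symm, inv_mul_cancel_right]
        exact inv_mem (hwc g)
      rwa [show w⁻¹ * (w * b * w⁻¹) * w⁻¹⁻¹ = b by group] at this
    have ha2 : a = 2 := by
      have h1 : Nat.card (Subgroup.center ↥S) < Nat.card (E' ⊓ N : Subgroup S) :=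
        lt_of_le_of_ne (Subgroup.card_le_of_le hbig.le) fun hc =>
          hbig.ne (Subgroup.eq_of_le_of_card_ge hbig.le hc.ge)
      rw [hZ, ha] at h1
      by_contra h2
      rw [show a = 1 by omega, pow_one] at h1
      exact lt_irrefl p h1
    have hZc : (Subgroup.center E).map e.symm.toMonoidHom = (Subgroup.center ↥S).subgroupOf E' := by
      ext z
      constructor
      · rintro ⟨c, hc, rfl⟩
        refine Subgroup.mem_subgroupOf.2 (hCE ▸ Subgroup.mem_centralizer_iff.2 fun g hg => ?_)
        exact Subtype.ext (congrArg Subtype.val (Subgroup.mem_center_iff.1 hc ⟨(g : Ω), hg⟩) :)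
      · intro hz
        refine ⟨e z, Subgroup.mem_center_iff.2 fun g => Subtype.ext ?_, e.symm_apply_apply z⟩
        exact (congrArg Subtype.val (Subgroup.mem_center_iff.1 (Subgroup.mem_subgroupOf.1 hz) ⟨g, hES g.2⟩) :)
    have hcardZ : Nat.card (Subgroup.center E) = p := by
      rw [← Subgroup.card_map_of_injective (f := e.symm.toMonoidHom) e.symm.injective, hZc,
        Nat.card_congr (Subgroup.subgroupOfEquivOfLe hZE).toEquiv, hZ]
    have hZW : Subgroup.center E ≤ W := fun c hc => by
      have : e.symm c ∈ (Subgroup.center ↥S).subgroupOf E' := hZc ▸ Subgroup.mem_map_of_mem _ hc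
      exact ⟨_, hZN.le (Subgroup.mem_subgroupOf.1 this), rfl⟩
    refine false_of_chain hS hF hE
      (fun i => if i = 0 then ⊤ else if i = 1 then W else if i = 2 then Subgroup.center E else ⊥) (m := 3)
      rfl rfl (fun γ hγ i x hx => ?_) fun i hi => ?_
    · by_cases h0 : i = 0
      · subst h0; exact Subgroup.mem_top _
      by_cases h1 : i = 1
      · subst h1; exact hWinv γ hγ x hx
      by_cases h2 : i = 2
      · subst h2
        refine Subgroup.mem_center_iff.2 fun g => ?_
        have := congrArg γ (Subgroup.mem_center_iff.1 hx (γ.symm g))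
        rwa [map_mul, map_mul, MulEquiv.apply_symm_apply] at this
      simp only [if_neg h0, if_neg h1, if_neg h2, Subgroup.mem_bot] at hx ⊢
      rw [hx, map_one]
    · have hWp : Nat.card W = p ^ 2 := by rw [hWc, ha, ha2]
      obtain rfl | rfl | rfl : i = 0 ∨ i = 1 ∨ i = 2 := by omega
      · exact ⟨le_top, by
          show Nat.card (⊤ : Subgroup E) = p * Nat.card W
          rw [Subgroup.card_top, ← hce, h3, hWp, ← pow_succ']⟩
      · exact ⟨hZW, by
          show Nat.card W = p * Nat.card (Subgroup.center E)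
          rw [hWp, hcardZ, pow_two]⟩
      · exact ⟨bot_le, by
          show Nat.card (Subgroup.center E) = p * Nat.card (⊥ : Subgroup E)
          rw [hcardZ, Subgroup.card_bot, mul_one]⟩
  · -- maximal class of order at least `p ^ 4`
    exact not_essential_of_mc hS hF hE (k := k)
      ⟨hce.symm.trans hk.card, hk.four_le, fun hb => hk.ne_bot (by
        have h1 := congrArg (Subgroup.map e.symm.toMonoidHom) hb
        rwa [Subgroup.map_bot, Subgroup.map_lowerCentralSeries,
          Subgroup.map_top_of_surjective _ e.symm.surjective] at h1)⟩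

end fusion

end Cfsg.Agent.Lib.MaxClass
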