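import Cfsg.Agent.Lib.MaxClass.Uniform

/-!
# Coordinates on the layers, and the commutator pairing

Owner: helper2.  For a uniform `t` and `x ∈ P 1 \ P 2`, `sq t x k` generates the layer `k`, `crd` is the
coordinate in a layer, and `pr` the matrix of the commutator pairing `P i × P j → P (i + j) / P (i + j + 1)`.
-/

set_option autoImplicit false
set_option linter.style.haveILetI false
set_option linter.unusedSectionVars false

open scoped commutatorElement

namespace Cfsg.Agent.Lib.MaxClass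

universe u

variable {p n : ℕ} [hp : Fact p.Prime] {S : Type u} [Group S] [Finite S]

open Classical in
/-- The exponent of `y` in `x`, modulo `P (k + 1)`. -/
noncomputable def crd (p : ℕ) (y : S) (k : ℕ) (x : S) : ZMod p :=
  if hh : ∃ a : ℤ, ∃ r ∈ P S (k + 1), x = r * y ^ a then ((hh.choose : ℤ) : ZMod p) else 0

variable (h : MC p n S)

section crd

variable {k : ℕ} {y : S} (hk : 1 ≤ k) (hkn : k < n) (hy : y ∈ P S k) (hy' : y ∉ P S (k + 1))
include h hk hkn hy hy'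

theorem MC.crd_eq {a : ℤ} {r x : S} (hr : r ∈ P S (k + 1)) (hx : x = r * y ^ a) :
    crd p y k x = (a : ZMod p) := by
  have hh : ∃ a : ℤ, ∃ r ∈ P S (k + 1), x = r * y ^ a := ⟨a, r, hr, hx⟩
  rw [crd, dif_pos hh]
  obtain ⟨r', hr', hx'⟩ := hh.choose_spec
  generalize hh.choose = b at hx'
  by_contra hne
  have hdiv : ¬ (p : ℤ) ∣ b - a := fun hd =>
    hne ((ZMod.intCast_eq_intCast_iff_dvd_sub _ _ _).2 hd).symm
  refine h.zpow_notMem hy hy' hdiv ?_
  have hyy : y ^ (b - a) = r'⁻¹ * r := by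
    rw [zpow_sub, eq_inv_mul_iff_mul_eq, ← mul_assoc, ← hx', hx, mul_inv_cancel_right]
  rw [hyy]
  exact mul_mem (inv_mem hr') hr

theorem MC.crd_self : crd p y k y = 1 := by
  rw [h.crd_eq hk hkn hy hy' (a := 1) (one_mem _) (by rw [zpow_one, one_mul]), Int.cast_one]

theorem MC.crd_of_mem_succ {x : S} (hx : x ∈ P S (k + 1)) : crd p y k x = 0 := by
  rw [h.crd_eq hk hkn hy hy' (a := 0) hx (by rw [zpow_zero, mul_one]), Int.cast_zero]

theorem MC.crd_mul {x x' : S} (hx : x ∈ P S k) (hx' : x' ∈ P S k) :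
    crd p y k (x * x') = crd p y k x + crd p y k x' := by
  obtain ⟨a, r, hr, rfl⟩ := h.exists_coord hk hkn hy hy' hx
  obtain ⟨b, s, hs, rfl⟩ := h.exists_coord hk hkn hy hy' hx'
  rw [h.crd_eq hk hkn hy hy' hr rfl, h.crd_eq hk hkn hy hy' hs rfl,
    h.crd_eq hk hkn hy hy' (a := a + b) (r := r * (y ^ a * s * (y ^ a)⁻¹)) ?_ ?_, Int.cast_add]
  · exact mul_mem hr ((P_normal _).conj_mem s hs _)
  · rw [zpow_add]; group

theorem MC.crd_one : crd p y k (1 : S) = 0 := h.crd_of_mem_succ hk hkn hy hy' (one_mem _)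

theorem MC.crd_inv {x : S} (hx : x ∈ P S k) : crd p y k x⁻¹ = - crd p y k x := by
  refine eq_neg_of_add_eq_zero_left ?_
  rw [← h.crd_mul hk hkn hy hy' (inv_mem hx) hx, inv_mul_cancel, h.crd_one hk hkn hy hy']

theorem MC.crd_conj {x : S} (hx : x ∈ P S k) (g : S) : crd p y k (g * x * g⁻¹) = crd p y k x := by
  rw [show g * x * g⁻¹ = ⁅g, x⁆ * x by group,
    h.crd_mul hk hkn hy hy' (P_succ_le k (comm_mem' hk hx g)) hx,
    h.crd_of_mem_succ hk hkn hy hy' (comm_mem' hk hx g), zero_add]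

theorem MC.crd_eq_zero {x : S} (hx : x ∈ P S k) (h0 : crd p y k x = 0) : x ∈ P S (k + 1) := by
  obtain ⟨a, r, hr, rfl⟩ := h.exists_coord hk hkn hy hy' hx
  rw [h.crd_eq hk hkn hy hy' hr rfl, ZMod.intCast_zmod_eq_zero_iff_dvd] at h0
  obtain ⟨b, rfl⟩ := h0
  refine mul_mem hr ?_
  rw [zpow_mul, zpow_natCast]
  exact zpow_mem (h.pow_mem_succ hy) b

theorem MC.crd_ne_zero {x : S} (hx : x ∈ P S k) (hx' : x ∉ P S (k + 1)) : crd p y k x ≠ 0 :=
  fun h0 => hx' (h.crd_eq_zero hk hkn hy hy' hx h0)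

/-- An additive function on a layer is a multiple of the coordinate. -/
theorem MC.crd_hom (φ : S → ZMod p) (hadd : ∀ a ∈ P S k, ∀ b ∈ P S k, φ (a * b) = φ a + φ b)
    (h0 : ∀ a ∈ P S (k + 1), φ a = 0) {x : S} (hx : x ∈ P S k) :
    φ x = crd p y k x * φ y := by
  obtain ⟨a, r, hr, rfl⟩ := h.exists_coord hk hkn hy hy' hx
  rw [h.crd_eq hk hkn hy hy' hr rfl, hadd r (P_succ_le k hr) _ (zpow_mem hy a), h0 r hr, zero_add]
  induction a with
  | zero => rw [zpow_zero, h0 1 (one_mem _), Int.cast_zero, zero_mul]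
  | succ i ih =>
    rw [zpow_add, zpow_one, hadd _ (zpow_mem hy _) y hy, ih (zpow_mem hy _ |> fun hh => mul_mem (P_succ_le k hr) hh)]
    push_cast; ring
  | pred i ih =>
    have h1 := hadd _ (zpow_mem hy (-(i : ℤ) - 1)) y hy
    rw [← zpow_add_one, sub_add_cancel, ih (mul_mem (P_succ_le k hr) (zpow_mem hy _))] at h1
    rw [eq_sub_of_add_eq h1.symm]
    push_cast; ring

end crd

/-- The `k`-th element of the chain started at `x`. -/
def sq (t x : S) (k : ℕ) : S := cm t (k - 1) x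

/-- A uniform element with a generator of the first layer. -/
structure Pair (n : ℕ) (t x : S) : Prop where
  uniform : Uniform n t
  mem : x ∈ P S 1
  notMem : x ∉ P S 2

/-- The pairing matrix. -/
noncomputable def pr (p : ℕ) (t x : S) (i j : ℕ) : ZMod p :=
  crd p (sq t x (i + j)) (i + j) ⁅sq t x i, sq t x j⁆

variable {t x : S} (hq : Pair n t x)
include h hq

theorem MC.sq_mem {k : ℕ} (hk : 1 ≤ k) : sq t x k ∈ P S k := by
  have := cm_mem le_rfl hq.mem t (k - 1)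
  rwa [show 1 + (k - 1) = k by omega] at this

theorem MC.sq_notMem {k : ℕ} (hk : 1 ≤ k) (hkn : k < n) : sq t x k ∉ P S (k + 1) := by
  have := MC.Uniform.cm_notMem h hq.uniform le_rfl hq.mem hq.notMem (k - 1) (by omega)
  rwa [show 1 + (k - 1) + 1 = k + 1 by omega] at this

theorem MC.comm_pairing {i j : ℕ} (hi : 1 ≤ i) (hj : 1 ≤ j) (hij : i + j < n) {a b : S}
    (ha : a ∈ P S i) (hb : b ∈ P S j) :
    crd p (sq t x (i + j)) (i + j) ⁅a, b⁆ =
      crd p (sq t x i) i a * crd p (sq t x j) j b * pr p t x i j := by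
  have hk : 1 ≤ i + j := by omega
  have hs := h.sq_mem hq hk
  have hs' := h.sq_notMem hq hk hij
  have h1 : ∀ b ∈ P S j, ∀ a ∈ P S i, crd p (sq t x (i + j)) (i + j) ⁅a, b⁆ =
      crd p (sq t x i) i a * crd p (sq t x (i + j)) (i + j) ⁅sq t x i, b⁆ := fun b hb a ha =>
    h.crd_hom hi (by omega) (h.sq_mem hq hi) (h.sq_notMem hq hi (by omega))
      (fun a => crd p (sq t x (i + j)) (i + j) ⁅a, b⁆)
      (fun a ha a' ha' => by
        show crd p _ _ ⁅a * a', b⁆ = _
        rw [show ⁅a * a', b⁆ = a * ⁅a', b⁆ * a⁻¹ * ⁅a, b⁆ by group,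
          h.crd_mul hk hij hs hs' ((P_normal _).conj_mem _ (comm_le hi hj ha' hb) a) (comm_le hi hj ha hb),
          h.crd_conj hk hij hs hs' (comm_le hi hj ha' hb) a, add_comm])
      (fun a ha => h.crd_of_mem_succ hk hij hs hs' (by
        rw [show i + j + 1 = i + 1 + j by omega]
        exact comm_le (by omega) hj ha hb)) ha
  have h2 : ∀ b ∈ P S j, crd p (sq t x (i + j)) (i + j) ⁅sq t x i, b⁆ =
      crd p (sq t x j) j b * pr p t x i j := fun b hb =>
    h.crd_hom hj (by omega) (h.sq_mem hq hj) (h.sq_notMem hq hj (by omega))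
      (fun b => crd p (sq t x (i + j)) (i + j) ⁅sq t x i, b⁆)
      (fun b hb b' hb' => by
        show crd p _ _ ⁅sq t x i, b * b'⁆ = _
        have hi' := h.sq_mem hq hi
        rw [show ⁅sq t x i, b * b'⁆ = ⁅sq t x i, b⁆ * (b * ⁅sq t x i, b'⁆ * b⁻¹) by group,
          h.crd_mul hk hij hs hs' (comm_le hi hj hi' hb) ((P_normal _).conj_mem _ (comm_le hi hj hi' hb') b),
          h.crd_conj hk hij hs hs' (comm_le hi hj hi' hb') b])
      (fun b hb => h.crd_of_mem_succ hk hij hs hs' (by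
        rw [Nat.add_assoc]
        exact comm_le hi (by omega) (h.sq_mem hq hi) hb)) hb
  rw [h1 b hb a ha, h2 b hb, mul_assoc]

theorem MC.comm_mem_of_pr {i j : ℕ} (hi : 1 ≤ i) (hj : 1 ≤ j) (hij : i + j < n)
    (h0 : pr p t x i j = 0) {a b : S} (ha : a ∈ P S i) (hb : b ∈ P S j) :
    ⁅a, b⁆ ∈ P S (i + j + 1) := by
  refine h.crd_eq_zero (by omega) hij (h.sq_mem hq (by omega)) (h.sq_notMem hq (by omega) hij)
    (comm_le hi hj ha hb) ?_
  rw [h.comm_pairing hq hi hj hij ha hb, h0, mul_zero]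

theorem MC.pr_eq_zero {i j : ℕ} (hi : 1 ≤ i) (hj : 1 ≤ j) (hij : i + j < n)
    (h0 : ∀ a ∈ P S i, ∀ b ∈ P S j, ⁅a, b⁆ ∈ P S (i + j + 1)) : pr p t x i j = 0 :=
  h.crd_of_mem_succ (by omega) hij (h.sq_mem hq (by omega)) (h.sq_notMem hq (by omega) hij)
    (h0 _ (h.sq_mem hq hi) _ (h.sq_mem hq hj))

theorem MC.pr_comm {i j : ℕ} (hi : 1 ≤ i) (hj : 1 ≤ j) (hij : i + j < n) :
    pr p t x j i = - pr p t x i j := by
  rw [pr, pr, ← commutatorElement_inv, Nat.add_comm j i]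
  exact h.crd_inv (by omega) hij (h.sq_mem hq (by omega)) (h.sq_notMem hq (by omega) hij)
    (comm_le hi hj (h.sq_mem hq hi) (h.sq_mem hq hj))

theorem MC.pr_self {i : ℕ} (hi : 1 ≤ i) (hij : i + i < n) : pr p t x i i = 0 := by
  rw [pr, commutatorElement_self]
  exact h.crd_one (by omega) hij (h.sq_mem hq (by omega)) (h.sq_notMem hq (by omega) hij)

/-- Conjugation by `t` gives the recurrence between adjacent levels. -/
theorem MC.pr_shift {i j : ℕ} (hi : 1 ≤ i) (hj : 1 ≤ j) (hij : i + j + 1 < n) :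
    pr p t x i j = pr p t x (i + 1) j + pr p t x i (j + 1) := by
  set y := sq t x with hydef
  have hym : ∀ {k}, 1 ≤ k → y k ∈ P S k := fun hk => h.sq_mem hq hk
  set k := i + j + 1 with hk
  have hk1 : 1 ≤ k := by omega
  have hs := h.sq_mem hq hk1
  have hs' := h.sq_notMem hq hk1 hij
  set w := ⁅y i, y j⁆ with hw
  have hwm : w ∈ P S (i + j) := comm_le hi hj (hym hi) (hym hj)
  have hstep : ∀ {m}, 1 ≤ m → ⁅y m, t⁆ = y (m + 1) := fun {m} hm => by
    obtain ⟨l, rfl⟩ := Nat.exists_eq_add_of_le' hm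
    rfl
  -- the coordinate of `⁅w, t⁆`
  have hL : crd p (y k) k ⁅w, t⁆ = pr p t x i j := by
    have := h.crd_hom (k := i + j) (by omega) (by omega) (h.sq_mem hq (by omega))
      (h.sq_notMem hq (by omega) (by omega)) (fun z => crd p (y k) k ⁅z, t⁆)
      (fun a ha b hb => by
        show crd p _ _ ⁅a * b, t⁆ = _
        rw [show ⁅a * b, t⁆ = a * ⁅b, t⁆ * a⁻¹ * ⁅a, t⁆ by group,
          h.crd_mul hk1 hij hs hs' ((P_normal _).conj_mem _ (comm_mem (by omega) hb t) a)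
            (comm_mem (by omega) ha t),
          h.crd_conj hk1 hij hs hs' (comm_mem (by omega) hb t) a, add_comm])
      (fun a ha => h.crd_of_mem_succ hk1 hij hs hs' (comm_mem (by omega) ha t)) hwm
    simp only [← hydef] at this
    rw [this, hstep (by omega : 1 ≤ i + j), h.crd_self hk1 hij hs hs', mul_one]
    rfl
  set a := (y (i + 1))⁻¹ with ha
  set a' := (y (j + 1))⁻¹ with ha'
  have ham : a ∈ P S (i + 1) := inv_mem (hym (by omega))
  have ha'm : a' ∈ P S (j + 1) := inv_mem (hym (by omega))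
  have hcb : a' * y j ∈ P S j := mul_mem (P_succ_le j ha'm) (hym hj)
  have e1 : t * y i * t⁻¹ = a * y i := by rw [ha, ← hstep hi]; group
  have e2 : t * y j * t⁻¹ = a' * y j := by rw [ha', ← hstep hj]; group
  have e3 : ⁅w, t⁆⁻¹ = a * ⁅y i, a'⁆ * a⁻¹ * (a * ⁅a', w⁆ * a⁻¹) * ⁅a, w⁆ *
      (w * ⁅a, a' * y j⁆ * w⁻¹) :=
    calc ⁅w, t⁆⁻¹ = ⁅t * y i * t⁻¹, t * y j * t⁻¹⁆ * w⁻¹ := by rw [hw]; group
      _ = ⁅a * y i, a' * y j⁆ * w⁻¹ := by rw [e1, e2]
      _ = _ := by rw [hw]; group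
  have m1 : ⁅y i, a'⁆ ∈ P S k := by
    rw [show k = i + (j + 1) by omega]; exact comm_le hi (by omega) (hym hi) ha'm
  have m2 : ⁅a', w⁆ ∈ P S (k + 1) :=
    P_anti (by omega) (comm_le (by omega : 1 ≤ j + 1) (by omega) ha'm hwm)
  have m3 : ⁅a, w⁆ ∈ P S (k + 1) :=
    P_anti (by omega) (comm_le (by omega : 1 ≤ i + 1) (by omega) ham hwm)
  have m4 : ⁅a, a' * y j⁆ ∈ P S k := by
    rw [show k = i + 1 + j by omega]; exact comm_le (by omega) hj ham hcb
  have hwt : ⁅w, t⁆ ∈ P S k := comm_mem (by omega) hwm t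
  have hcon : ∀ {z}, z ∈ P S k → ∀ g : S, g * z * g⁻¹ ∈ P S k :=
    fun {z} hz g => (P_normal _).conj_mem z hz g
  have hE := congrArg (crd p (y k) k) e3
  rw [h.crd_inv hk1 hij hs hs' hwt, hL,
    h.crd_mul hk1 hij hs hs' (mul_mem (mul_mem (hcon m1 a) (hcon (P_succ_le k m2) a))
      (P_succ_le k m3)) (hcon m4 w),
    h.crd_mul hk1 hij hs hs' (mul_mem (hcon m1 a) (hcon (P_succ_le k m2) a)) (P_succ_le k m3),
    h.crd_mul hk1 hij hs hs' (hcon m1 a) (hcon (P_succ_le k m2) a),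
    h.crd_conj hk1 hij hs hs' m1, h.crd_conj hk1 hij hs hs' (P_succ_le k m2),
    h.crd_conj hk1 hij hs hs' m4,
    h.crd_of_mem_succ hk1 hij hs hs' m2, h.crd_of_mem_succ hk1 hij hs hs' m3, add_zero, add_zero] at hE
  have p1 := h.comm_pairing hq hi (by omega : 1 ≤ j + 1) (by omega) (hym hi) ha'm
  have p2 := h.comm_pairing hq (by omega : 1 ≤ i + 1) hj (by omega) ham hcb
  rw [show i + (j + 1) = k by omega, ha', h.crd_inv (by omega) (by omega) (h.sq_mem hq (by omega))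
      (h.sq_notMem hq (by omega) (by omega)) (hym (by omega)),
    h.crd_self hi (by omega) (h.sq_mem hq hi) (h.sq_notMem hq hi (by omega)),
    h.crd_self (by omega : 1 ≤ j + 1) (by omega) (h.sq_mem hq (by omega))
      (h.sq_notMem hq (by omega) (by omega))] at p1
  rw [show i + 1 + j = k by omega, h.crd_mul hj (by omega) (h.sq_mem hq hj) (h.sq_notMem hq hj (by omega))
      (P_succ_le j ha'm) (hym hj),
    h.crd_of_mem_succ hj (by omega) (h.sq_mem hq hj) (h.sq_notMem hq hj (by omega)) ha'm,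
    h.crd_self hj (by omega) (h.sq_mem hq hj) (h.sq_notMem hq hj (by omega)),
    ha, h.crd_inv (by omega) (by omega) (h.sq_mem hq (by omega))
      (h.sq_notMem hq (by omega) (by omega)) (hym (by omega)),
    h.crd_self (by omega : 1 ≤ i + 1) (by omega) (h.sq_mem hq (by omega))
      (h.sq_notMem hq (by omega) (by omega))] at p2
  simp only [← hydef, ← ha, ← ha'] at p1 p2
  rw [p1, p2] at hE
  linear_combination -hE

end Cfsg.Agent.Lib.MaxClass
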