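import Cfsg.Agent.Lib.MaxClass.Coord

/-!
# The degree of commutativity (Blackburn)

Owner: helper2.  For `p` odd: `⁅P i, P j⁆ ≤ P (i + j + 1)` whenever `i + j ≤ n - 2`
(`S / Z(S)` has positive degree of commutativity), and for all `i, j` when `n` is odd or `p + 1 < n`.
-/

set_option autoImplicit false
set_option linter.style.haveILetI false
set_option linter.unusedSectionVars false

open scoped commutatorElement

namespace Cfsg.Agent.Lib.MaxClass

universe u

variable {p n : ℕ} [hp : Fact p.Prime] {S : Type u} [Group S] [Finite S]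

/-- Positive degree of commutativity up to level `m`. -/
def Deg (S : Type u) [Group S] (m : ℕ) : Prop :=
  ∀ i j, 1 ≤ i → 1 ≤ j → i + j ≤ m → ∀ x ∈ P S i, ∀ y ∈ P S j, ⁅x, y⁆ ∈ P S (i + j + 1)

theorem exists_notMem_three (hp3 : 3 ≤ p) (hS : IsPGroup p S) {A B C : Subgroup S} (hA : A ≠ ⊤)
    (hB : B ≠ ⊤) (hC : C ≠ ⊤) : ∃ g : S, g ∉ A ∧ g ∉ B ∧ g ∉ C := by
  classical
  by_contra hne
  push Not at hne
  have : Fintype S := Fintype.ofFinite S
  have hsmall : ∀ H : Subgroup S, H ≠ ⊤ → 3 * Nat.card H ≤ Nat.card S := fun H hH => by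
    obtain ⟨e, he⟩ := hS.index H
    have h1 : 3 ≤ H.index := by
      rw [he]
      rcases Nat.eq_zero_or_pos e with rfl | he0
      · exact absurd (Subgroup.index_eq_one.1 (by simpa using he)) hH
      · exact le_trans hp3 (Nat.le_self_pow (by omega) p)
    rw [← H.card_mul_index, Nat.mul_comm (Nat.card H)]
    exact Nat.mul_le_mul_right _ h1
  have hcard : ∀ H : Subgroup S, Nat.card H = (Finset.univ.filter (· ∈ H)).card := fun H => by
    rw [Nat.card_eq_fintype_card, Fintype.card_subtype]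
  set a := Finset.univ.filter (· ∈ A)
  set b := (Finset.univ.filter (· ∈ B)).erase 1
  set c := (Finset.univ.filter (· ∈ C))
  have hcov : (Finset.univ : Finset S) ⊆ a ∪ b ∪ c := fun g _ => by
    rcases em (g ∈ A) with hgA | hgA
    · simp [a, hgA]
    rcases em (g ∈ B) with hgB | hgB
    · have h1 : g ≠ 1 := fun h1 => hgA (h1 ▸ one_mem A)
      simp [b, hgB, h1]
    · simp [c, hne g hgA hgB]
  have h1 := (Finset.card_le_card hcov).trans ((Finset.card_union_le _ _).trans
    (Nat.add_le_add_right (Finset.card_union_le _ _) _))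
  have hb : b.card + 1 = Nat.card B := by
    rw [hcard B]; exact Finset.card_erase_add_one (by simp)
  have ha : a.card = Nat.card A := (hcard A).symm
  have hc : c.card = Nat.card C := (hcard C).symm
  rw [Finset.card_univ, ← Nat.card_eq_fintype_card] at h1
  have := hsmall A hA
  have := hsmall B hB
  have := hsmall C hC
  omega

theorem comm_P_one_P_one {x y : S} (h : MC p n S) (hx : x ∈ P S 1) (hy : y ∈ P S 1) :
    ⁅x, y⁆ ∈ P S 3 := by
  have h4 := h.four_le
  obtain ⟨s, hs, hs'⟩ := h.exists_notMem_succ le_rfl (by omega)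
  set π := QuotientGroup.mk' (P S 3)
  have hc : ∀ z ∈ P S 2, ∀ g ∈ P S 1, Commute (π z) (π g) := fun z hz g hg => by
    rw [← commutatorElement_eq_one_iff_commute, ← map_commutatorElement]
    exact (QuotientGroup.eq_one_iff _).2 (comm_le (i := 2) (j := 1) (by omega) le_rfl hz hg)
  obtain ⟨a, r, hr, rfl⟩ := h.exists_coord le_rfl (by omega) hs hs' hx
  obtain ⟨b, r', hr', rfl⟩ := h.exists_coord le_rfl (by omega) hs hs' hy
  refine (QuotientGroup.eq_one_iff _).1 ?_
  change π ⁅r * s ^ a, r' * s ^ b⁆ = 1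
  rw [map_commutatorElement, commutatorElement_eq_one_iff_commute]
  simp only [map_mul, map_zpow]
  exact Commute.mul_left
    (Commute.mul_right (hc r hr r' (P_succ_le 1 hr')) ((hc r hr s hs).zpow_right b))
    (Commute.mul_right ((hc r' hr' s hs).symm.zpow_left a) ((Commute.refl _).zpow_zpow a b))

theorem Deg.three (h : MC p n S) : Deg S 3 := by
  intro i j hi hj hij x hx y hy
  obtain rfl | rfl : i = 1 ∨ i = 2 := by omega
  · obtain rfl | rfl : j = 1 ∨ j = 2 := by omega
    · exact comm_P_one_P_one h hx hy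
    · rw [← commutatorElement_inv]
      exact inv_mem (mem_relCentralizer.1 hx y hy)
  · obtain rfl : j = 1 := by omega
    exact mem_relCentralizer.1 hy x hx

theorem Deg.mono {a b : ℕ} (hd : Deg S b) (hab : a ≤ b) : Deg S a :=
  fun i j hi hj hij => hd i j hi hj (hij.trans hab)

variable (h : MC p n S)
include h

theorem MC.mk_P {k : ℕ} (hk : 1 ≤ k) (hkn : k ≤ n - 1) (hn : 5 ≤ n) (z : S) :
    (QuotientGroup.mk' (P S (n - 1)) z) ∈ P (S ⧸ P S (n - 1)) k ↔ z ∈ P S k := by
  set π := QuotientGroup.mk' (P S (n - 1)) with hπ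
  have hlcs : ∀ i, lcs (S ⧸ P S (n - 1)) i = (lcs S i).map π := fun i => by
    rw [lcs, lcs, Subgroup.map_lowerCentralSeries,
      Subgroup.map_top_of_surjective π (QuotientGroup.mk'_surjective _)]
  have hback : ∀ i, i ≤ n - 2 → ∀ w, π w ∈ lcs (S ⧸ P S (n - 1)) i → w ∈ lcs S i := fun i hi w hw => by
    rw [hlcs] at hw
    obtain ⟨v, hv, hvw⟩ := hw
    have h1 : v⁻¹ * w ∈ P S (n - 1) := (QuotientGroup.eq_one_iff _).1 (by
      change π (v⁻¹ * w) = 1
      rw [map_mul, map_inv, hvw, inv_mul_cancel])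
    rw [P_eq_lcs (by omega)] at h1
    have := mul_mem hv ((⊤ : Subgroup S).lowerCentralSeries_antitone (by omega : i ≤ n - 1 - 1) h1)
    rwa [mul_inv_cancel_left] at this
  rcases Nat.lt_or_ge k 2 with h2 | h2
  · obtain rfl : k = 1 := by omega
    change π z ∈ relCentralizer _ _ ↔ z ∈ relCentralizer _ _
    rw [mem_relCentralizer, mem_relCentralizer]
    constructor
    · intro hz a ha
      refine hback 3 (by omega) _ ?_
      rw [map_commutatorElement]
      exact hz _ (by rw [hlcs]; exact Subgroup.mem_map_of_mem π ha)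
    · intro hz a ha
      rw [hlcs] at ha
      obtain ⟨v, hv, rfl⟩ := ha
      rw [← map_commutatorElement, hlcs]
      exact Subgroup.mem_map_of_mem π (hz v hv)
  · rw [P_eq_lcs h2, P_eq_lcs h2]
    exact ⟨hback (k - 1) (by omega) z, fun hz => by rw [hlcs]; exact Subgroup.mem_map_of_mem π hz⟩

theorem MC.quotient (hn : 5 ≤ n) : MC p (n - 1) (S ⧸ P S (n - 1)) := by
  refine ⟨?_, by omega, fun hbot => ?_⟩
  · have h1 := (P S (n - 1)).card_mul_index
    rw [h.card_P (by omega) (by omega), h.card, show n - (n - 1) = 1 by omega, pow_one] at h1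
    refine Nat.eq_of_mul_eq_mul_left hp.out.pos (h1.trans ?_)
    rw [← pow_succ']; congr 1; omega
  · obtain ⟨z, hz, hz'⟩ := h.exists_notMem_succ (i := n - 2) (by omega) (by omega)
    have h1 := (h.mk_P (k := n - 2) (by omega) (by omega) hn z).2 hz
    rw [P_eq_lcs (S := S ⧸ P S (n - 1)) (i := n - 2) (by omega), lcs, show n - 2 - 1 = n - 1 - 2 by omega,
      hbot, Subgroup.mem_bot] at h1
    refine hz' ?_
    rw [show n - 2 + 1 = n - 1 by omega]
    exact (QuotientGroup.eq_one_iff _).1 h1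

theorem MC.P_one_le_M {m : ℕ} (hd : Deg S m) {i : ℕ} (hi : 1 ≤ i) (him : i + 1 ≤ m) : P S 1 ≤ M S i :=
  fun _ hg => mem_M.2 fun a ha => by
    have := hd i 1 hi le_rfl him a ha _ hg
    rwa [show i + 1 + 1 = i + 2 by omega] at this

theorem MC.notMem_M {m : ℕ} (hd : Deg S m) {i : ℕ} (hi : 1 ≤ i) (him : i + 1 ≤ m) (hin : i + 2 ≤ n)
    {t : S} (ht : t ∉ P S 1) : t ∉ M S i := fun hM =>
  ht (h.eq_of_index_prime h.index_P_one (h.P_one_le_M hd hi him) (h.M_ne_top hi hin) ▸ hM)

/-- A uniform element with a translate by a generator of the first layer, both avoiding `N`. -/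
theorem MC.exists_pair_translate (hp3 : 3 ≤ p) {N : Subgroup S} (hN : N ≠ ⊤)
    (hu : ∀ t, t ∉ P S 1 → t ∉ N → Uniform n t) :
    ∃ t x : S, Pair n t x ∧ Uniform n (x * t) := by
  have h4 := h.four_le
  obtain ⟨t, ht1, htN, -⟩ := exists_notMem_three hp3 h.isPGroup h.P_one_ne_top hN hN
  obtain ⟨x, hx, hx'⟩ := h.exists_notMem_succ le_rfl (by omega)
  have hne : ∀ y ∈ P S 1, y * t ∉ P S 1 := fun y hy hc => ht1 (by
    have := mul_mem (inv_mem hy) hc
    rwa [inv_mul_cancel_left] at this)
  by_cases hxN : x * t ∈ N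
  · refine ⟨t, x * x, ⟨hu t ht1 htN, mul_mem hx hx, fun hxx => ?_⟩,
      hu _ (hne _ (mul_mem hx hx)) fun hxxN => ?_⟩
    · refine h.zpow_notMem hx hx' (l := 2) (fun hd => ?_) (by rw [zpow_two]; exact hxx)
      have := Nat.le_of_dvd (by omega) (Int.natCast_dvd_natCast.1 (show (p : ℤ) ∣ (2 : ℕ) from hd))
      omega
    · have h1 : x ∈ N := by
        have := mul_mem hxxN (inv_mem hxN)
        rwa [show x * x * t * (x * t)⁻¹ = x by group] at this
      refine htN ?_
      have := mul_mem (inv_mem h1) hxN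
      rwa [inv_mul_cancel_left] at this
  · exact ⟨t, x, ⟨hu t ht1 htN, hx, hx'⟩, hu _ (hne x hx) hxN⟩

section pair

variable {t x : S} (hq : Pair n t x)
include hq

theorem MC.Uniform.commute_pow {k : ℕ} (hk : 2 ≤ k) (hkn : n + 1 ≤ k + p) {c y : S}
    (hc : ⁅c, y⁆ ∈ P S k) : Commute c (y ^ p) := by
  have hp2 := hp.out.two_le
  set d := ⁅c, y⁆ with hd
  obtain ⟨l, -, hmem⟩ := pow_congr h (by omega) hc y
    (fun z hz => P_anti (by omega) (MC.Uniform.pow_mem h hq.uniform (j := k + 1) (by omega) hz))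
    (fun i _ _ w hw => P_anti (by omega) (comm_le (by omega) (by omega) hw hc))
  have h1 : d ^ p = 1 := h.eq_one (by omega) (MC.Uniform.pow_mem h hq.uniform hk hc)
  have h2 : cm y (p - 1) d = 1 := h.eq_one (by omega) (cm_mem (by omega) hc y (p - 1))
  have h3 := h.eq_one (by omega) hmem
  rw [h1, h2, one_zpow, inv_one, one_mul, one_mul, inv_mul_eq_one, hd,
    show ⁅c, y⁆ * y = c * y * c⁻¹ by group, conj_pow] at h3
  exact mul_inv_eq_iff_eq_mul.1 h3

/-- The pairing vanishes at `(p, n - 1 - p)` when `x * t` is uniform as well. -/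
theorem MC.pr_p_eq_zero (hn : p + 1 < n) (hp3 : 3 ≤ p) (hxt : Uniform n (x * t))
    {m : ℕ} (hd : Deg S m) (hm : p ≤ m) (hm' : n - p ≤ m) : pr p t x p (n - 1 - p) = 0 := by
  have hxp := MC.Uniform.pow_one_layer h hq.uniform hq.mem hn
    (P_anti (by omega) (MC.Uniform.pow_mem_last h hxt))
    (fun k _ hk y hy => by
      have := hd k 1 (by omega) le_rfl (by omega) y hy x hq.mem
      rwa [show k + 1 + 1 = k + 2 by omega] at this)
  set c := sq t x (n - 1 - p) with hc
  have hcm : c ∈ P S (n - 1 - p) := h.sq_mem hq (by omega)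
  have hcomm : ⁅c, x⁆ ∈ P S (n - 1 - p + 2) := by
    have := hd (n - 1 - p) 1 (by omega) le_rfl (by omega) c hcm x hq.mem
    rwa [show n - 1 - p + 1 + 1 = n - 1 - p + 2 by omega] at this
  have h1 := (MC.Uniform.commute_pow h hq (by omega) (by omega) hcomm).symm
  have h2 := h.comm_pairing hq (by omega : 1 ≤ p) (by omega) (by omega) hxp.1 hcm
  rw [commutatorElement_eq_one_iff_commute.2 h1,
    h.crd_one (by omega) (by omega) (h.sq_mem hq (by omega)) (h.sq_notMem hq (by omega) (by omega)), hc,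
    h.crd_self (by omega) (by omega) (h.sq_mem hq (by omega)) (h.sq_notMem hq (by omega) (by omega)),
    mul_one, eq_comm, mul_eq_zero] at h2
  exact h2.resolve_left (h.crd_ne_zero (by omega) (by omega) (h.sq_mem hq (by omega))
    (h.sq_notMem hq (by omega) (by omega)) hxp.1 (hxp.2 hq.notMem))

/-- One level alternates when the level below vanishes. -/
theorem MC.pr_alt {L : ℕ} (hL : L + 1 ≤ n) (hd : Deg S (L - 1)) :
    ∀ i, 1 ≤ i → i + 1 ≤ L → pr p t x i (L - i) = (-1) ^ (i + 1) * pr p t x 1 (L - 1) := by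
  intro i
  induction i with
  | zero => omega
  | succ i ih =>
    intro _ hi
    rcases Nat.eq_zero_or_pos i with rfl | hi0
    · norm_num
    have h1 := h.pr_shift hq (i := i) (j := L - (i + 1)) hi0 (by omega) (by omega)
    rw [h.pr_eq_zero hq hi0 (by omega) (by omega) (hd i _ hi0 (by omega) (by omega)),
      show L - (i + 1) + 1 = L - i by omega, ih hi0 (by omega)] at h1
    rw [pow_succ]
    linear_combination -h1

/-- A vanishing level gives one more degree. -/
theorem MC.deg_succ {L : ℕ} (hL : L + 1 ≤ n) (hd : Deg S (L - 1)) (h0 : pr p t x 1 (L - 1) = 0) :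
    Deg S L := by
  intro i j hi hj hij a ha b hb
  rcases Nat.lt_or_ge (i + j) L with hlt | hge
  · exact hd i j hi hj (by omega) a ha b hb
  · refine h.comm_mem_of_pr hq hi hj (by omega) ?_ ha hb
    rw [show j = L - i by omega, h.pr_alt hq hL hd i hi (by omega), h0, mul_zero]

theorem MC.pr_alt_eq_zero {L : ℕ} (hp3 : 3 ≤ p) (hL : L + 1 ≤ n) (hL2 : 2 ≤ L) (hd : Deg S (L - 1))
    (heven : Even L) : pr p t x 1 (L - 1) = 0 := by
  obtain ⟨r, rfl⟩ := heven
  have h1 := h.pr_alt hq hL hd r (by omega) (by omega)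
  rw [Nat.add_sub_cancel, h.pr_self hq (by omega) (by omega), eq_comm, mul_eq_zero] at h1
  exact h1.resolve_left (pow_ne_zero _ (neg_ne_zero.2 one_ne_zero))

end pair

/-- The inductive step. -/
theorem MC.deg_step (hp3 : 3 ≤ p) (hn : 6 ≤ n) (hd : Deg S (n - 3)) : Deg S (n - 2) := by
  have hd' : Deg S (n - 2 - 1) := by rwa [show n - 2 - 1 = n - 3 by omega]
  have hlow : ∀ t, t ∉ P S 1 → ∀ i, 2 ≤ i → i + 2 ≤ n → i + 1 ≤ n - 3 → t ∉ M S i :=
    fun t ht i h2 hin hi => h.notMem_M hd (by omega) hi hin ht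
  obtain ⟨t, ht1, ht3, ht2⟩ := exists_notMem_three hp3 h.isPGroup h.P_one_ne_top
    (h.M_ne_top (i := n - 3) (by omega) (by omega)) (h.M_ne_top (i := n - 2) (by omega) (by omega))
  have hu : Uniform n t := h.uniform_of ht1 fun i h2 hin => by
    rcases (by omega : i + 1 ≤ n - 3 ∨ i = n - 3 ∨ i = n - 2) with hi | rfl | rfl
    exacts [hlow t ht1 i h2 hin hi, ht3, ht2]
  obtain ⟨x, hx, hx'⟩ := h.exists_notMem_succ le_rfl (by omega)
  have hq : Pair n t x := ⟨hu, hx, hx'⟩
  by_cases hb : pr p t x 1 (n - 2 - 1) = 0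
  · exact h.deg_succ hq (by omega) hd' hb
  have hodd : ¬ Even (n - 2) := fun he => hb (h.pr_alt_eq_zero hq hp3 (by omega) (by omega) hd' he)
  -- the three subgroup lemma: `P 1` centralises `P (n - 2)`
  have hcent : ∀ w ∈ P S (n - 2), ∀ g ∈ P S 1, Commute w g := by
    have hrot1 : ⁅⁅P S (n - 4), P S 1⁆, P S 2⁆ = (⊥ : Subgroup S) := by
      rw [← le_bot_iff, Subgroup.commutator_le]
      intro a ha b hb
      have hle : ⁅P S (n - 4), P S 1⁆ ≤ P S (n - 2) := Subgroup.commutator_le.2 fun u hu' v hv => by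
        have := hd (n - 4) 1 (by omega) le_rfl (by omega) u hu' v hv
        rwa [show n - 4 + 1 + 1 = n - 2 by omega] at this
      rw [Subgroup.mem_bot]
      exact h.eq_one (by omega) (comm_le (by omega) (by omega) (hle ha) hb)
    have hrot2 : ⁅⁅P S 1, P S 2⁆, P S (n - 4)⁆ = (⊥ : Subgroup S) := by
      rw [← le_bot_iff, Subgroup.commutator_le]
      intro a ha b hb
      have hle : ⁅P S 1, P S 2⁆ ≤ P S 4 := Subgroup.commutator_le.2 fun u hu' v hv =>
        hd 1 2 le_rfl (by omega) (by omega) u hu' v hv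
      rw [Subgroup.mem_bot]
      exact h.eq_one (by omega) (comm_le (by omega) (by omega) (hle ha) hb)
    have hbot := Subgroup.commutator_commutator_eq_bot_of_rotate hrot1 hrot2
    set w₀ := ⁅sq t x 2, sq t x (n - 4)⁆ with hw₀
    have hw₀m : w₀ ∈ P S (n - 2) := by
      have := comm_le (by omega) (by omega) (h.sq_mem hq (k := 2) (by omega)) (h.sq_mem hq (k := n - 4) (by omega))
      rwa [show 2 + (n - 4) = n - 2 by omega] at this
    have hw₀' : w₀ ∉ P S (n - 2 + 1) := fun hc => by
      have h1 := h.pr_alt hq (L := n - 2) (by omega) hd' 2 (by omega) (by omega)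
      have h2 : pr p t x 2 (n - 2 - 2) = 0 := by
        rw [show n - 2 - 2 = n - 4 by omega, pr, show 2 + (n - 4) = n - 2 by omega]
        exact h.crd_of_mem_succ (by omega) (by omega) (h.sq_mem hq (by omega))
          (h.sq_notMem hq (by omega) (by omega)) hc
      rw [h2, eq_comm, mul_eq_zero] at h1
      exact hb (h1.resolve_left (pow_ne_zero _ (neg_ne_zero.2 one_ne_zero)))
    have hw₀c : ∀ g ∈ P S 1, Commute w₀ g := fun g hg => by
      rw [← commutatorElement_eq_one_iff_commute, ← Subgroup.mem_bot, ← hbot]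
      exact Subgroup.commutator_mem_commutator (Subgroup.commutator_mem_commutator
        (h.sq_mem hq (by omega)) (h.sq_mem hq (by omega))) hg
    intro w hw g hg
    obtain ⟨a, r, hr, rfl⟩ := h.exists_coord (by omega) (by omega) hw₀m hw₀' hw
    exact Commute.mul_left (h.last_central (P_anti (by omega) hr) g) ((hw₀c g hg).zpow_left a)
  have htop : ∀ g, g ∉ P S 1 → g ∉ M S (n - 2) := fun g hg hM => by
    refine hg (h.eq_of_index_prime h.index_P_one ?_ (h.M_ne_top (i := n - 2) (by omega) (by omega)) ▸ hM)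
    exact fun v hv => mem_M.2 fun a ha => by
      rw [commutatorElement_eq_one_iff_commute.2 (hcent a ha v hv)]
      exact one_mem _
  obtain ⟨t, x, hq, hxt⟩ := h.exists_pair_translate hp3
    (h.M_ne_top (i := n - 3) (by omega) (by omega)) fun s hs1 hs3 => h.uniform_of hs1 fun i h2 hin => by
      rcases (by omega : i + 1 ≤ n - 3 ∨ i = n - 3 ∨ i = n - 2) with hi | rfl | rfl
      exacts [hlow s hs1 i h2 hin hi, hs3, htop s hs1]
  refine h.deg_succ hq (by omega) hd' ?_
  set b := pr p t x 1 (n - 2 - 1) with hb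
  have hlin : ∀ i, 1 ≤ i → i + 2 ≤ n →
      pr p t x i (n - 1 - i) = (-1) ^ i * ((i : ZMod p) - 1) * b := by
    intro i
    induction i with
    | zero => omega
    | succ i ih =>
      intro _ hin
      rcases Nat.eq_zero_or_pos i with rfl | hi0
      · rw [show ((0 + 1 : ℕ) : ZMod p) - 1 = 0 by simp, mul_zero, zero_mul]
        refine h.pr_eq_zero hq le_rfl (by omega) (by omega) fun u hu' v hv => ?_
        rw [commutatorElement_eq_one_iff_commute.2
          (hcent v (P_anti (by omega) hv) u hu').symm]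
        exact one_mem _
      have h1 := h.pr_shift hq (i := i) (j := n - 2 - i) hi0 (by omega) (by omega)
      rw [h.pr_alt hq (L := n - 2) (by omega) hd' i hi0 (by omega), show n - 2 - i + 1 = n - 1 - i by omega,
        ih hi0 (by omega), ← hb] at h1
      rw [show n - 1 - (i + 1) = n - 2 - i by omega]
      push_cast
      simp only [pow_succ] at h1 ⊢
      linear_combination -h1
  obtain ⟨r, hr⟩ : Odd n := by
    rcases Nat.even_or_odd n with ⟨r, hr⟩ | ho
    · exact absurd ⟨r - 1, by omega⟩ hodd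
    · exact ho
  have hh := hlin r (by omega) (by omega)
  rw [show n - 1 - r = r by omega, h.pr_self hq (by omega) (by omega), eq_comm, mul_eq_zero,
    mul_eq_zero] at hh
  rcases hh with (hh | hh) | hh
  · exact absurd hh (pow_ne_zero _ (neg_ne_zero.2 one_ne_zero))
  · have hdvd : p ∣ r - 1 := by
      rw [← ZMod.natCast_eq_zero_iff, Nat.cast_sub (by omega), Nat.cast_one]
      exact hh
    have hple : p ≤ r - 1 := Nat.le_of_dvd (by omega) hdvd
    have h0 := h.pr_p_eq_zero hq (by omega) hp3 hxt hd (by omega) (by omega)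
    rw [hlin p (by omega) (by omega), ZMod.natCast_self, zero_sub, mul_eq_zero, mul_eq_zero] at h0
    rcases h0 with (h0 | h0) | h0
    · exact absurd h0 (pow_ne_zero _ (neg_ne_zero.2 one_ne_zero))
    · exact absurd h0 (neg_ne_zero.2 one_ne_zero)
    · exact h0
  · exact hh

omit h in
theorem deg_aux (hp3 : 3 ≤ p) : ∀ (n : ℕ) (S : Type u) [Group S] [Finite S], MC p n S → Deg S (n - 2) := by
  intro n
  induction n using Nat.strong_induction_on with
  | _ n ih =>
    intro S _ _ h
    rcases Nat.lt_or_ge n 6 with hn | hn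
    · exact (Deg.three h).mono (by omega)
    refine h.deg_step hp3 hn fun i j hi hj hij x hx y hy => ?_
    have hQ := h.quotient (by omega)
    have := ih (n - 1) (by omega) _ hQ i j hi hj (by omega)
      _ ((h.mk_P hi (by omega) (by omega) x).2 hx) _ ((h.mk_P hj (by omega) (by omega) y).2 hy)
    rw [← map_commutatorElement] at this
    exact (h.mk_P (by omega) (by omega) (by omega) _).1 this

/-- Blackburn: `S / Z(S)` has positive degree of commutativity. -/
theorem MC.deg_sub_two (hp3 : 3 ≤ p) : Deg S (n - 2) := deg_aux hp3 n S h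

/-- Blackburn: positive degree of commutativity for `n` odd or `n > p + 1`. -/
theorem MC.deg (hp3 : 3 ≤ p) (hn : Odd n ∨ p + 1 < n) : Deg S n := by
  have h4 := h.four_le
  have hd := h.deg_sub_two hp3
  have hd' : Deg S (n - 1 - 1) := by rwa [show n - 1 - 1 = n - 2 by omega]
  suffices hs : Deg S (n - 1) by
    intro i j hi hj hij x hx y hy
    rcases Nat.lt_or_ge (i + j) n with hlt | hge
    · exact hs i j hi hj (by omega) x hx y hy
    · rw [h.eq_one hge (comm_le hi hj hx hy)]
      exact one_mem _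
  have hu : ∀ t, t ∉ P S 1 → t ∉ M S (n - 2) → Uniform n t := fun t ht ht2 =>
    h.uniform_of ht fun i h2 hin => by
      rcases (by omega : i + 1 ≤ n - 2 ∨ i = n - 2) with hi | rfl
      exacts [h.notMem_M hd (by omega) hi hin ht, ht2]
  obtain ⟨t, x, hq, hxt⟩ := h.exists_pair_translate hp3 (h.M_ne_top (i := n - 2) (by omega) (by omega)) hu
  refine h.deg_succ hq (by omega) hd' ?_
  rcases Nat.even_or_odd n with he | ho
  · have hn' := hn.resolve_left (Nat.not_odd_iff_even.2 he)
    have h1 := h.pr_p_eq_zero hq hn' hp3 hxt hd (by omega) (by omega)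
    rw [h.pr_alt hq (L := n - 1) (by omega) hd' p (by omega) (by omega), mul_eq_zero] at h1
    exact h1.resolve_left (pow_ne_zero _ (neg_ne_zero.2 one_ne_zero))
  · exact h.pr_alt_eq_zero hq hp3 (by omega) (by omega) hd'
      (by obtain ⟨r, hr⟩ := ho; exact ⟨r, by omega⟩)

/-- Outside `P 1` every element is uniform when the degree of commutativity is positive. -/
theorem MC.uniform_of_deg (hd : Deg S n) {t : S} (ht : t ∉ P S 1) : Uniform n t :=
  h.uniform_of ht fun i _ hin => h.notMem_M hd (by omega) (by omega) hin ht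

/-- `n > p + 1`: the `p`-th power maps the layer `j ≥ 1` to the layer `j + p - 1`, bijectively below `n`. -/
theorem MC.pow_layer (hp3 : 3 ≤ p) (hn : p + 1 < n) {j : ℕ} (hj : 1 ≤ j) {x : S} (hx : x ∈ P S j) :
    x ^ p ∈ P S (j + p - 1) ∧ (x ∉ P S (j + 1) → j + p - 1 < n → x ^ p ∉ P S (j + p)) := by
  have hd := h.deg hp3 (Or.inr hn)
  obtain ⟨t, ht⟩ : ∃ t, t ∉ P S 1 := by
    by_contra hne
    push Not at hne
    exact h.P_one_ne_top (eq_top_iff.2 fun g _ => hne g)
  have hu := h.uniform_of_deg hd ht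
  rcases Nat.lt_or_ge j 2 with h2 | h2
  · obtain rfl : j = 1 := by omega
    have hxt : Uniform n (x * t) := h.uniform_of_deg hd fun hc => ht (by
      have := mul_mem (inv_mem hx) hc
      rwa [inv_mul_cancel_left] at this)
    obtain ⟨h1, h3⟩ := MC.Uniform.pow_one_layer h hu hx hn
      (P_anti (by omega) (MC.Uniform.pow_mem_last h hxt))
      (fun k hk2 hk y hy => by
        have := hd k 1 (by omega) le_rfl (by omega) y hy x hx
        rwa [show k + 1 + 1 = k + 2 by omega] at this)
    refine ⟨P_anti (by omega) h1, fun hx' _ => ?_⟩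
    rw [show 1 + p = p + 1 by omega]
    exact h3 hx'
  · exact ⟨MC.Uniform.pow_mem h hu h2 hx, fun hx' hlt => MC.Uniform.pow_notMem h hu h2 hlt hx hx'⟩

end Cfsg.Agent.Lib.MaxClass
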