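import Cfsg.Agent.Lib.MaxClass.Rank
import Cfsg.Agent.Lib.PGroups.Omega

/-!
# Small self-centralising subgroups of `p`-groups (pearls)

Owner: helper2.  A centric elementary abelian subgroup of order `p ^ 2` or centric nonabelian subgroup of
order `p ^ 3` gives a self-centralising subgroup of order `p ^ 2`, hence maximal class.
-/

set_option autoImplicit false
set_option linter.style.haveILetI false
set_option linter.unusedSectionVars false

open scoped commutatorElement Pointwise

namespace Cfsg.Agent.Lib.MaxClass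

universe u

variable {p n : ℕ} [hp : Fact p.Prime] {S : Type u} [Group S] [Finite S]

theorem exists_self_centralizing_sq (hS : IsPGroup p S) (E : Subgroup S)
    (hE : Nat.card E = p ^ 3) (hnc : ¬ IsMulCommutative E)
    (hC : Subgroup.centralizer (E : Set S) ≤ E) :
    ∃ A : Subgroup S, Nat.card A = p ^ 2 ∧ A ≤ E ∧ Subgroup.centralizer (A : Set S) = A := by
  set Z := Subgroup.centralizer (E : Set S) with hZdef
  have hZE : Z ≤ E := hC
  -- `Z` is the centre of `E`, of order `p`
  have hncenter : (Subgroup.center E).index ≠ 1 := fun h1 => hnc (by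
    have := Subgroup.index_eq_one.1 h1
    exact ⟨⟨fun a b => (Subgroup.mem_center_iff.1 (this ▸ Subgroup.mem_top a : a ∈ Subgroup.center E) b).symm⟩⟩)
  have hnp : (Subgroup.center E).index ≠ p := fun h1 => hnc (by
    haveI : IsCyclic (E ⧸ Subgroup.center E) := isCyclic_of_prime_card (p := p) (by rwa [← Subgroup.index_eq_card])
    exact (QuotientGroup.mk' (Subgroup.center E)).isMulCommutative_of_isCyclic_of_ker_le_center (by simp))
  have hEp := hS.to_subgroup E
  haveI : Nontrivial E := by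
    rw [← Finite.one_lt_card_iff_nontrivial, hE]
    exact Nat.one_lt_pow (by omega) hp.out.one_lt
  have hcpos : Subgroup.center E ≠ ⊥ := (hEp.center_nontrivial |> fun h => (Subgroup.nontrivial_iff_ne_bot _).1 h)
  have hcardc : Nat.card (Subgroup.center E) = p := by
    have h1 := (Subgroup.center E).card_mul_index
    rw [hE] at h1
    obtain ⟨i, hi, hci⟩ := (Nat.dvd_prime_pow hp.out).1 (Dvd.intro _ h1)
    rw [hci] at h1 ⊢
    have hidx : (Subgroup.center E).index = p ^ (3 - i) := by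
      refine Nat.eq_of_mul_eq_mul_left (pow_pos hp.out.pos i) ?_
      rw [h1, ← pow_add]; congr 1; omega
    have hi0 : i ≠ 0 := fun h0 => hcpos (Subgroup.card_eq_one.1 (by rw [hci, h0, pow_zero]))
    have hi3 : i ≠ 3 := fun h0 => hncenter (by rw [hidx, h0, Nat.sub_self, pow_zero])
    have hi2 : i ≠ 2 := fun h0 => hnp (by rw [hidx, h0, pow_one])
    rw [show i = 1 by omega, pow_one]
  have hZeq : Z = (Subgroup.center E).map E.subtype := by
    ext z
    constructor
    · exact fun hz => ⟨⟨z, hZE hz⟩, Subgroup.mem_center_iff.2 fun e => Subtype.ext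
        (Subgroup.mem_centralizer_iff.1 hz e e.2), rfl⟩
    · rintro ⟨z, hz, rfl⟩
      exact Subgroup.mem_centralizer_iff.2 fun e he =>
        congrArg Subtype.val (Subgroup.mem_center_iff.1 hz ⟨e, he⟩)
  have hZcard : Nat.card Z = p := by
    rw [hZeq, Subgroup.card_map_of_injective E.subtype_injective, hcardc]
  have hZc : ∀ z ∈ Z, ∀ e ∈ E, Commute z e := fun z hz e he => (Subgroup.mem_centralizer_iff.1 hz e he).symm
  -- `E / Z` is abelian
  have hder : ∀ a ∈ E, ∀ b ∈ E, ⁅a, b⁆ ∈ Z := by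
    have hq : Nat.card (E ⧸ Subgroup.center E) = p ^ 2 := by
      have h1 := (Subgroup.center E).card_mul_index
      rw [hE, hcardc] at h1
      rw [← Subgroup.index_eq_card]
      exact Nat.eq_of_mul_eq_mul_left hp.out.pos (h1.trans (pow_succ' p 2))
    have hle := Subgroup.Normal.quotient_commutative_iff_commutator_le.1
      (IsPGroup.isMulCommutative_of_card_eq_prime_sq (p := p) hq)
    intro a ha b hb
    rw [hZeq]
    exact ⟨⁅(⟨a, ha⟩ : E), ⟨b, hb⟩⁆,
      hle (Subgroup.commutator_mem_commutator (Subgroup.mem_top _) (Subgroup.mem_top _)), rfl⟩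
  -- a line of `E / Z` fixed by the normaliser
  set N := Subgroup.normalizer (E : Set S) with hN
  have hEN : E ≤ N := Subgroup.le_normalizer
  obtain ⟨g, hgE, hgZ, hg⟩ : ∃ g ∈ E, g ∉ Z ∧ ∀ c ∈ N, ⁅g, c⁆ ∈ Z := by
    haveI : (E.subgroupOf N).Normal := Subgroup.normal_in_normalizer
    haveI hZn : (Z.subgroupOf N).Normal := by
      refine ⟨fun z hz c => ?_⟩
      have hz' := Subgroup.mem_subgroupOf.1 hz
      refine Subgroup.mem_subgroupOf.2 (Subgroup.mem_centralizer_iff.2 fun e he => ?_)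
      have he' : (c : S)⁻¹ * e * c ∈ E := (Subgroup.mem_normalizer_iff''.1 c.2 e).1 he
      have := (hZc z hz' _ he').eq
      show e * ((c : S) * z * (c : S)⁻¹) = (c : S) * z * (c : S)⁻¹ * e
      calc e * ((c : S) * z * (c : S)⁻¹) = c * (((c : S)⁻¹ * e * c) * z) * (c : S)⁻¹ := by group
        _ = c * (z * ((c : S)⁻¹ * e * c)) * (c : S)⁻¹ := by rw [this]
        _ = _ := by group
    set π := QuotientGroup.mk' (Z.subgroupOf N)
    haveI : ((E.subgroupOf N).map π).Normal := Subgroup.Normal.map inferInstance π (QuotientGroup.mk'_surjective _)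
    have hne : (E.subgroupOf N).map π ≠ ⊥ := by
      rw [Ne, Subgroup.map_eq_bot_iff, QuotientGroup.ker_mk']
      intro hle
      have h2 : E ≤ Z := fun e he => hle (show (⟨e, hEN he⟩ : N) ∈ E.subgroupOf N from he)
      have := Subgroup.card_le_of_le h2
      rw [hE, hZcard] at this
      exact absurd this (not_le.2 (by
        calc p = p ^ 1 := (pow_one p).symm
          _ < p ^ 3 := Nat.pow_lt_pow_right hp.out.one_lt (by omega)))
    have hQ : IsPGroup p (N ⧸ Z.subgroupOf N) := (hS.to_subgroup N).to_quotient _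
    obtain ⟨⟨q, hq⟩, hq0⟩ := Subgroup.ne_bot_iff_exists_ne_one.1
      (Cfsg.Agent.Lib.PGroups.normal_inf_center_ne_bot hQ _ hne)
    have hq1 : q ≠ 1 := fun h1 => hq0 (Subtype.ext h1)
    obtain ⟨g, hg, rfl⟩ := hq.1
    refine ⟨g, hg, fun hgZ => hq1 ((QuotientGroup.eq_one_iff _).2 hgZ), fun c hc => ?_⟩
    have := Subgroup.mem_center_iff.1 hq.2 (π ⟨c, hc⟩)
    exact (QuotientGroup.eq_one_iff ⁅g, (⟨c, hc⟩ : N)⁆).1 (by
      change π ⁅g, (⟨c, hc⟩ : N)⁆ = 1
      rw [map_commutatorElement, commutatorElement_eq_one_iff_mul_comm]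
      exact this.symm)
  have hsupcard : ∀ e ∈ E, e ∉ Z → Nat.card (Z ⊔ Subgroup.zpowers e : Subgroup S) = p ^ 2 ∧
      ∀ a ∈ Z ⊔ Subgroup.zpowers e, Commute a e := by
    intro e he heZ
    have hcomm : ∀ a ∈ Z ⊔ Subgroup.zpowers e, Commute a e := fun a ha =>
      (Subgroup.mem_centralizer_singleton_iff.1 ((sup_le (fun z hz =>
        Subgroup.mem_centralizer_singleton_iff.2 (hZc z hz e he).eq)
        ((Subgroup.zpowers_le).2 (Subgroup.mem_centralizer_singleton_iff.2 rfl)) :
        Z ⊔ Subgroup.zpowers e ≤ Subgroup.centralizer {e}) ha))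
    refine ⟨?_, hcomm⟩
    have hle : Z ⊔ Subgroup.zpowers e ≤ E := sup_le hZE ((Subgroup.zpowers_le).2 he)
    obtain ⟨i, hi, hci⟩ := (Nat.dvd_prime_pow hp.out).1 (hE ▸ Subgroup.card_dvd_of_le hle)
    have h1 : 1 < i := by
      have hlt : Z < Z ⊔ Subgroup.zpowers e := lt_of_le_of_ne le_sup_left fun h =>
        heZ (h ▸ Subgroup.mem_sup_right (Subgroup.mem_zpowers e))
      have h2 : Nat.card Z < Nat.card (Z ⊔ Subgroup.zpowers e : Subgroup S) := by
        refine lt_of_le_of_ne (Subgroup.card_le_of_le hlt.le) fun hc => hlt.ne ?_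
        exact Subgroup.eq_of_le_of_card_ge hlt.le hc.ge
      rw [hZcard, hci] at h2
      by_contra hle1
      have := Nat.pow_le_pow_right hp.out.pos (not_lt.1 hle1)
      rw [pow_one] at this
      omega
    have h3 : i ≠ 3 := fun h3 => by
      have heq : Z ⊔ Subgroup.zpowers e = E := Subgroup.eq_of_le_of_card_ge hle (by rw [hci, h3, hE])
      refine heZ (Subgroup.mem_centralizer_iff.2 fun x hx => ?_)
      exact (hcomm x (heq.symm ▸ hx)).eq
    rw [hci, show i = 2 by omega]
  -- a second line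
  obtain ⟨y, hyE, hy⟩ : ∃ y ∈ E, y ∉ Z ⊔ Subgroup.zpowers g := by
    refine SetLike.exists_of_lt (lt_of_le_of_ne (sup_le hZE ((Subgroup.zpowers_le).2 hgE)) fun h => ?_)
    have := (hsupcard g hgE hgZ).1
    rw [h, hE] at this
    exact absurd (Nat.pow_right_injective hp.out.two_le this) (by omega)
  have hyZ : y ∉ Z := fun h => hy (Subgroup.mem_sup_left h)
  obtain ⟨hAcard, hAcomm⟩ := hsupcard y hyE hyZ
  set A := Z ⊔ Subgroup.zpowers y with hA
  have hAE : A ≤ E := sup_le hZE ((Subgroup.zpowers_le).2 hyE)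
  have hyA : y ∈ A := Subgroup.mem_sup_right (Subgroup.mem_zpowers y)
  have hgen : E ≤ A ⊔ Subgroup.zpowers g := by
    have hle : A ⊔ Subgroup.zpowers g ≤ E := sup_le hAE ((Subgroup.zpowers_le).2 hgE)
    refine (Subgroup.eq_of_le_of_card_ge hle ?_).ge
    obtain ⟨i, hi, hci⟩ := (Nat.dvd_prime_pow hp.out).1 (hE ▸ Subgroup.card_dvd_of_le hle)
    rw [hci, hE]
    by_contra hlt
    have hi2 : i ≤ 2 := by
      by_contra h3
      exact hlt (by rw [show i = 3 by omega])
    have heq : Z ⊔ Subgroup.zpowers g = A ⊔ Subgroup.zpowers g :=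
      Subgroup.eq_of_le_of_card_ge (sup_le_sup_right le_sup_left _) (by
        rw [hci, (hsupcard g hgE hgZ).1]
        exact Nat.pow_le_pow_right hp.out.pos hi2)
    exact hy (heq ▸ Subgroup.mem_sup_left hyA)
  set w := ⁅g, y⁆ with hw
  have hw1 : w ≠ 1 := fun h1 => hyZ (Subgroup.mem_centralizer_iff.2 fun e he => by
    have : e ∈ Subgroup.centralizer ({y} : Set S) := (sup_le (fun a ha =>
      Subgroup.mem_centralizer_singleton_iff.2 (hAcomm a ha).eq) ((Subgroup.zpowers_le).2
        (Subgroup.mem_centralizer_singleton_iff.2 (commutatorElement_eq_one_iff_mul_comm.1 h1))) :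
      A ⊔ Subgroup.zpowers g ≤ _) (hgen he)
    exact Subgroup.mem_centralizer_singleton_iff.1 this)
  refine ⟨A, hAcard, hAE, ?_⟩
  set K := Subgroup.centralizer (A : Set S) with hK
  have hAK : A ≤ K := fun a ha => Subgroup.mem_centralizer_iff.2 fun b hb => by
    have : b ∈ Subgroup.centralizer ({a} : Set S) := (sup_le (fun z hz =>
      Subgroup.mem_centralizer_singleton_iff.2 (hZc z hz a (hAE ha)).eq) ((Subgroup.zpowers_le).2
        (Subgroup.mem_centralizer_singleton_iff.2 (hAcomm a ha).eq.symm)) : A ≤ _) hb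
    exact Subgroup.mem_centralizer_singleton_iff.1 this
  have hKE : K ≤ E := by
    have hEK : E ≤ Subgroup.normalizer (K : Set S) := by
      intro e he
      refine Subgroup.mem_normalizer_iff.2 fun k => ?_
      have hAn : ∀ a ∈ A, ∀ f ∈ E, f * a * f⁻¹ ∈ A := fun a ha f hf => by
        rw [show f * a * f⁻¹ = ⁅f, a⁆ * a by group]
        exact mul_mem (Subgroup.mem_sup_left (hder f hf a (hAE ha))) ha
      have key : ∀ f ∈ E, ∀ k ∈ K, f * k * f⁻¹ ∈ K := fun f hf k hk =>
        Subgroup.mem_centralizer_iff.2 fun a ha => by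
          have := Subgroup.mem_centralizer_iff.1 hk _ (hAn a ha f⁻¹ (inv_mem hf))
          calc a * (f * k * f⁻¹) = f * ((f⁻¹ * a * f⁻¹⁻¹) * k) * f⁻¹ := by group
            _ = f * (k * (f⁻¹ * a * f⁻¹⁻¹)) * f⁻¹ := by rw [this]
            _ = f * k * f⁻¹ * a := by group
      refine ⟨key e he k, fun hk => ?_⟩
      have := key e⁻¹ (inv_mem he) _ hk
      rwa [show e⁻¹ * (e * k * e⁻¹) * e⁻¹⁻¹ = k by group] at this
    by_contra hKE
    have hlt : E < E ⊔ K := lt_of_le_of_ne le_sup_left fun h => hKE (h ▸ le_sup_right)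
    haveI : Group.IsNilpotent (E ⊔ K : Subgroup S) := (hS.to_subgroup _).isNilpotent
    have hlt' : E.subgroupOf (E ⊔ K) < ⊤ := lt_top_iff_ne_top.2 fun h => hlt.not_ge
      (Subgroup.subgroupOf_eq_top.1 h)
    obtain ⟨⟨c, hcT⟩, hcn, hcE⟩ := SetLike.exists_of_lt
      (Group.normalizerCondition_of_isNilpotent _ hlt')
    have hcN : c ∈ N := by
      refine Subgroup.mem_normalizer_iff.2 fun e => ⟨fun he => ?_, fun he => ?_⟩
      · exact ((Subgroup.mem_normalizer_iff.1 hcn ⟨e, Subgroup.mem_sup_left he⟩).1 he)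
      · have heT : e ∈ E ⊔ K := by
          have := mul_mem (mul_mem (inv_mem hcT) (Subgroup.mem_sup_left he)) hcT
          rwa [show c⁻¹ * (c * e * c⁻¹) * c = e by group] at this
        exact ((Subgroup.mem_normalizer_iff.1 hcn ⟨e, heT⟩).2 he)
    have hcmem : c ∈ ((E : Set S) * (K : Set S)) := by
      rw [← Subgroup.coe_mul_of_left_le_normalizer_right E K hEK]
      exact hcT
    obtain ⟨e, he, k, hk, rfl⟩ := hcmem
    refine hcE (Subgroup.mem_subgroupOf.2 (E.mul_mem he ?_))
    have hkN : k ∈ N := by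
      have := mul_mem (inv_mem (hEN he)) hcN
      rwa [inv_mul_cancel_left] at this
    -- correct `k` by a power of `y`
    have hz := hg k hkN
    obtain ⟨m, hm⟩ : ∃ m : ℤ, ⁅g, y⁆ ^ m = ⁅g, k⁆⁻¹ := by
      have hwZ : ⁅g, y⁆ ∈ Z := hder g hgE y hyE
      have : Subgroup.zpowers ⁅g, y⁆ = Z := Subgroup.eq_of_le_of_card_ge ((Subgroup.zpowers_le).2 hwZ) (by
        rw [Nat.card_zpowers, hZcard]
        exact (orderOf_eq_prime (congrArg Subtype.val (show (⟨⁅g, y⁆, hwZ⟩ : Z) ^ p = 1 by
          rw [← hZcard]; exact pow_card_eq_one')) hw1).ge)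
      exact Subgroup.mem_zpowers_iff.1 (this.symm ▸ inv_mem hz)
    have hcy : ∀ m : ℤ, g * y ^ m * g⁻¹ = ⁅g, y⁆ ^ m * y ^ m := fun m => by
      rw [← conj_zpow, show g * y * g⁻¹ = ⁅g, y⁆ * y by group]
      exact (hZc _ (hder g hgE y hyE) y hyE).mul_zpow m
    have hkC : y ^ m * k ∈ Z := by
      refine Subgroup.mem_centralizer_iff.2 fun x hx => ?_
      have hgc : Commute g (y ^ m * k) := by
        refine mul_inv_eq_iff_eq_mul.1 ?_
        calc g * (y ^ m * k) * g⁻¹ = (g * y ^ m * g⁻¹) * (⁅g, k⁆ * k) := by group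
          _ = ⁅g, y⁆ ^ m * (y ^ m * ⁅g, k⁆) * k := by rw [hcy]; group
          _ = ⁅g, y⁆ ^ m * (⁅g, k⁆ * y ^ m) * k := by rw [(hZc _ hz _ (zpow_mem hyE m)).eq]
          _ = y ^ m * k := by rw [hm]; group
      have hac : ∀ a ∈ A, Commute a (y ^ m * k) := fun a ha =>
        ((hAcomm a ha).zpow_right m).mul_right (Subgroup.mem_centralizer_iff.1 hk a ha)
      have : x ∈ Subgroup.centralizer ({y ^ m * k} : Set S) := (sup_le (fun a ha =>
        Subgroup.mem_centralizer_singleton_iff.2 (hac a ha).eq) ((Subgroup.zpowers_le).2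
          (Subgroup.mem_centralizer_singleton_iff.2 hgc.eq)) : A ⊔ Subgroup.zpowers g ≤ _) (hgen hx)
      exact Subgroup.mem_centralizer_singleton_iff.1 this
    have := mul_mem (zpow_mem hyE (-m)) (hZE hkC)
    rwa [zpow_neg, inv_mul_cancel_left] at this
  refine le_antisymm (le_of_eq (Subgroup.eq_of_le_of_card_ge hAK ?_).symm) hAK
  obtain ⟨i, hi, hci⟩ := (Nat.dvd_prime_pow hp.out).1 (hE ▸ Subgroup.card_dvd_of_le hKE)
  rw [hci, hAcard]
  refine Nat.pow_le_pow_right hp.out.pos ?_
  by_contra h3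
  have heq : K = E := Subgroup.eq_of_le_of_card_ge hKE (by rw [hci, show i = 3 by omega, hE])
  refine hw1 (commutatorElement_eq_one_iff_mul_comm.2 ?_)
  exact (Subgroup.mem_centralizer_iff.1 (heq.symm ▸ hgE : g ∈ K) y hyA).symm

end Cfsg.Agent.Lib.MaxClass
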