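import Cfsg.Agent.Lib.MaxClass.Pearl
import Cfsg.Agent.Lib.FusionSystem.Essential
import Cfsg.Agent.Lib.FusionSystem.Saturation
import Cfsg.Agent.Lib.PGroups.Automorphism
import Cfsg.Agent.Lib.IndexP

/-!
# A pearl of order `9` in a group of order `27`

Owner: helper2.  The base of such a system has exponent `3`.
-/

set_option autoImplicit false
set_option linter.style.haveILetI false
set_option linter.unusedSectionVars false

open scoped commutatorElement
open Cfsg Cfsg.FusionSystem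

namespace Cfsg.Agent.Lib.MaxClass

variable {Ω : Type*} [Group Ω] {S : Subgroup Ω} [Finite S] {p : ℕ} [hp : Fact p.Prime] {F : FusionSystem S}

/-- An essential subgroup is proper. -/
theorem essential_ne_base (hS : IsPGroup p S) (hF : F.IsSaturated p) {E : Subgroup Ω}
    (hE : F.IsEssential p E) : E ≠ S := by
  rintro rfl
  obtain ⟨-, -, hn, Y, hdvd, -, -⟩ := hE
  obtain ⟨R, hR⟩ := (FS.isFullyAutomized_base hS hF).2
  have hle : autInducedBy E E ≤ Inn E := fun α hα => by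
    obtain ⟨g, hg, he⟩ := FS.mem_autInducedBy.1 hα
    exact ⟨⟨g, hg⟩, MulEquiv.ext fun x => Subtype.ext (he x).symm⟩
  have hdiv : ((Inn E).subgroupOf (F.autGroup E)).index ∣ (R : Subgroup (F.autGroup E)).index := by
    rw [hR]
    exact Subgroup.index_dvd_of_le fun a ha => Subgroup.mem_subgroupOf.2 (hle (Subgroup.mem_subgroupOf.1 ha))
  refine R.not_dvd_index (dvd_trans ?_ hdiv)
  rwa [Subgroup.index_eq_card]

/-- Automorphisms of an elementary pearl do not all fix a given line met by commutators with the base. -/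
theorem exists_aut_moving (hS : IsPGroup p S) (hF : F.IsSaturated p) {E : Subgroup Ω}
    (hE : F.IsEssential p E) (hab : ∀ a ∈ E, ∀ b ∈ E, Commute a b) {Z : Subgroup Ω} {u : MulAut E}
    (hu : u ∈ F.autGroup E) (hu1 : u ≠ 1) (hu2 : ∀ a : E, (a⁻¹ * u a : E).1 ∈ Z)
    (hu3 : ∀ a : E, (a : Ω) ∈ Z → u a = a) :
    ∃ β ∈ F.autGroup E, ∃ a : E, (a : Ω) ∈ Z ∧ ((β a : E) : Ω) ∉ Z := by
  by_contra hne
  push Not at hne
  have hES : E ≤ S := hE.1.1
  haveI : Finite E := FS.finite_sub hES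
  let K : Subgroup (F.autGroup E) :=
    { carrier := {α | (∀ a : E, (a⁻¹ * (α : MulAut E) a : E).1 ∈ Z) ∧
        ∀ a : E, (a : Ω) ∈ Z → (α : MulAut E) a = a}
      one_mem' := ⟨fun a => by simp, fun a _ => rfl⟩
      mul_mem' := by
        intro α β hα hβ
        refine ⟨fun a => ?_, fun a ha => ?_⟩
        · have h1 := Z.mul_mem (hβ.1 a) (hα.1 ((β : MulAut E) a))
          have h2 : (a⁻¹ * ((α * β : F.autGroup E) : MulAut E) a : E) =
              (a⁻¹ * (β : MulAut E) a) * (((β : MulAut E) a)⁻¹ * (α : MulAut E) ((β : MulAut E) a)) := by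
            show a⁻¹ * (α : MulAut E) ((β : MulAut E) a) = _
            group
          rw [h2]
          exact h1
        · show (α : MulAut E) ((β : MulAut E) a) = a
          rw [hβ.2 a ha, hα.2 a ha]
      inv_mem' := by
        intro α hα
        refine ⟨fun a => ?_, fun a ha => ?_⟩
        · have h1 := hα.1 ((α : MulAut E)⁻¹ a)
          rw [MulAut.apply_inv_self] at h1
          have h2 := Z.inv_mem h1
          rw [← Subgroup.coe_inv, mul_inv_rev, inv_inv] at h2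
          exact h2
        · have h1 := congrArg ((α : MulAut E)⁻¹ ·) (hα.2 a ha)
          simp only [MulAut.inv_apply_self] at h1
          exact h1.symm }
  have hKn : K.Normal := by
    refine ⟨fun α hα γ => ?_⟩
    set g : MulAut E := (γ : MulAut E) with hg
    have hγi : ∀ a : E, (a : Ω) ∈ Z → ((g⁻¹ a : E) : Ω) ∈ Z := fun a ha => hne g⁻¹ (inv_mem γ.2) a ha
    refine ⟨fun a => ?_, fun a ha => ?_⟩
    · show (a⁻¹ * g ((α : MulAut E) (g⁻¹ a)) : E).1 ∈ Z
      have h1 := hα.1 (g⁻¹ a)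
      have h2 := hne g γ.2 _ h1
      rw [map_mul, map_inv, MulAut.apply_inv_self] at h2
      exact h2
    · show g ((α : MulAut E) (g⁻¹ a)) = a
      rw [hα.2 _ (hγi a ha), MulAut.apply_inv_self]
  have hKp : IsPGroup p K := by
    obtain ⟨e, he⟩ : ∃ e, Nat.card K = p ^ e := by
      refine ⟨_, Nat.eq_prime_pow_of_unique_prime_dvd Nat.card_pos.ne' fun {q} hq hdvd => ?_⟩
      by_contra hqp
      haveI : Fact q.Prime := ⟨hq⟩
      obtain ⟨α, hα⟩ := exists_prime_orderOf_dvd_card' q hdvd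
      have hord : orderOf (((α : F.autGroup E)) : MulAut E) = q := by
        rw [Subgroup.orderOf_coe, Subgroup.orderOf_coe]
        exact hα
      have hcop : (orderOf (((α : F.autGroup E)) : MulAut E)).Coprime p := by
        rw [hord]
        exact (Nat.coprime_primes hq hp.out).2 hqp
      have hfix : ((α : F.autGroup E) : MulAut E) = 1 := MulEquiv.ext fun a =>
        PGroups.eq_of_fixed_diff (FS.isPGroup_of_le hS hES) _ hcop a (α.2.2 _ (α.2.1 a))
      rw [hfix, orderOf_one] at hord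
      exact hq.one_lt.ne hord
    exact IsPGroup.of_card he
  have hrad := (FS.radical_of_essential hS hF hE).2
  have hmem : u ∈ (pCore p (F.autGroup E)).map (F.autGroup E).subtype :=
    ⟨⟨u, hu⟩, Cores.le_pCore hKp ⟨hu2, hu3⟩, rfl⟩
  rw [hrad] at hmem
  obtain ⟨g, rfl⟩ := hmem
  refine hu1 (MulEquiv.ext fun a => Subtype.ext ?_)
  show (g : Ω) * a * (g : Ω)⁻¹ = a
  rw [(hab g g.2 a a.2).eq, mul_inv_cancel_right]

/-- A group of order `27` with a pearl of order `9` has exponent `3`. -/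
theorem pow_three_eq_one [Fact (Nat.Prime 3)] {F : FusionSystem S} (hS : IsPGroup 3 S) (hF : F.IsSaturated 3)
    (hcard : Nat.card S = 27) {E : Subgroup Ω} (hE : F.IsEssential 3 E) (h9 : Nat.card E = 9)
    (hab : ∀ a ∈ E, ∀ b ∈ E, Commute a b) (hexp : ∀ a ∈ E, a ^ 3 = 1) : ∀ g ∈ S, g ^ 3 = 1 := by
  classical
  have hES : E ≤ S := hE.1.1
  haveI : Finite E := FS.finite_sub hES
  have hcent : centralizerIn S E ≤ E := hE.1.2 E (FS.isConj_refl F hES)
  have hidx : (E.subgroupOf S).index = 3 := by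
    have h1 := (E.subgroupOf S).card_mul_index
    rw [Nat.card_congr (Subgroup.subgroupOfEquivOfLe hES).toEquiv, h9, hcard] at h1
    omega
  haveI hEn : (E.subgroupOf S).Normal := IndexP.normal_of_index hS _ hidx
  have hconj : ∀ g ∈ S, ∀ a ∈ E, g * a * g⁻¹ ∈ E := fun g hg a ha =>
    Subgroup.mem_subgroupOf.1 (hEn.conj_mem ⟨a, hES ha⟩ (Subgroup.mem_subgroupOf.2 ha) ⟨g, hg⟩)
  obtain ⟨x, hxS, hxE⟩ : ∃ x ∈ S, x ∉ E := SetLike.exists_of_lt
    (lt_of_le_of_ne hES fun h1 => by rw [h1, hcard] at h9; omega)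
  have hpow : ∀ g ∈ S, g ^ 3 ∈ E := fun g hg => by
    have := Subgroup.pow_index_mem (E.subgroupOf S) ⟨g, hg⟩
    rwa [hidx] at this
  have hdec : ∀ g ∈ S, ∃ (e : Ω) (k : ℤ), e ∈ E ∧ g = e * x ^ k := by
    intro g hg
    have hsup : E.subgroupOf S ⊔ Subgroup.zpowers (⟨x, hxS⟩ : S) = ⊤ :=
      (IndexP.isCoatom_of_index _ hidx).2 _ (lt_of_le_of_ne le_sup_left fun hc =>
        hxE (Subgroup.mem_subgroupOf.1 (hc.symm ▸ Subgroup.mem_sup_right (Subgroup.mem_zpowers _))))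
    obtain ⟨e, he, _, ⟨k, rfl⟩, hek⟩ := Subgroup.mem_sup_of_normal_left.1
      (hsup.symm ▸ Subgroup.mem_top (⟨g, hg⟩ : S))
    exact ⟨(e : Ω), k, Subgroup.mem_subgroupOf.1 he, (congrArg Subtype.val hek).symm⟩
  -- the centre line `Z = C_E(x)`
  set Z := E ⊓ Subgroup.centralizer {x} with hZ
  have hZc : ∀ z ∈ Z, ∀ g ∈ S, Commute z g := by
    intro z hz g hg
    obtain ⟨e, k, he, rfl⟩ := hdec g hg
    exact (hab z hz.1 e he).mul_right
      ((show Commute z x from Subgroup.mem_centralizer_singleton_iff.1 hz.2).zpow_right k)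
  -- commutators with `x` lie in `Z`
  have hnab : ∃ a ∈ E, ¬ Commute x a := by
    by_contra hall
    push Not at hall
    exact hxE (hcent ⟨hxS, Subgroup.mem_centralizer_iff.2 fun a ha => (hall a ha).eq.symm⟩)
  obtain ⟨t₀, ht₀, ht₀x⟩ := hnab
  have hZE : ∀ a ∈ E, ⁅x, a⁆ ∈ Z := by
    intro a ha
    have hcls : Group.nilpotencyClass S ≤ 2 := by
      haveI := hS.isNilpotent
      rcases Classical.em (IsMulCommutative S) with hc | hc
      · exact (PGroups.nilpotencyClass_le_one_of_comm hc).trans (by omega)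
      · have := PGroups.nilpotencyClass_le_pred (p := 3) 3 (X := S) (by rw [hcard]; norm_num) hc
        omega
    haveI := hS.isNilpotent
    have h2 : (⊤ : Subgroup S).lowerCentralSeries 2 = ⊥ :=
      Subgroup.lowerCentralSeries_eq_bot_iff_nilpotencyClass_le.2 hcls
    have haS := hES ha
    have hcx : ⁅⁅(⟨x, hxS⟩ : S), (⟨a, haS⟩ : S)⁆, (⟨x, hxS⟩ : S)⁆ = 1 := by
      rw [← Subgroup.mem_bot, ← h2]
      exact Subgroup.commutator_mem_commutator (Subgroup.commutator_mem_commutator (Subgroup.mem_top _)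
        (Subgroup.mem_top _)) (Subgroup.mem_top _)
    refine ⟨?_, Subgroup.mem_centralizer_singleton_iff.2 ?_⟩
    · show x * a * x⁻¹ * a⁻¹ ∈ E
      exact mul_mem (hconj x hxS a ha) (inv_mem ha)
    · exact commutatorElement_eq_one_iff_mul_comm.1 (congrArg Subtype.val hcx)
  have hc0 : ⁅x, t₀⁆ ≠ 1 := fun h1 => ht₀x (commutatorElement_eq_one_iff_commute.1 h1)
  -- the automorphism induced by `x`
  let u : MulAut E :=
    { toFun := fun a => ⟨x * a * x⁻¹, hconj x hxS a a.2⟩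
      invFun := fun a => ⟨x⁻¹ * a * x, by
        have := hconj x⁻¹ (inv_mem hxS) a a.2
        rwa [inv_inv] at this⟩
      left_inv := fun a => Subtype.ext (show x⁻¹ * (x * (a : Ω) * x⁻¹) * x = a by group)
      right_inv := fun a => Subtype.ext (show x * (x⁻¹ * (a : Ω) * x) * x⁻¹ = a by group)
      map_mul' := fun a b => Subtype.ext (show x * ((a : Ω) * b) * x⁻¹ = x * a * x⁻¹ * (x * b * x⁻¹) by group) }
  have huG : u ∈ F.autGroup E := (FS.mem_autGroup hES).2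
    (FS.hom_congr (F.conj_mem hES hxS) fun _ => rfl)
  have hu1 : u ≠ 1 := fun h1 => ht₀x (mul_inv_eq_iff_eq_mul.1
    (show x * t₀ * x⁻¹ = t₀ from congrArg (fun w : MulAut E => ((w ⟨t₀, ht₀⟩ : E) : Ω)) h1))
  have hu2 : ∀ a : E, (a⁻¹ * u a : E).1 ∈ Z := fun a => by
    show (a : Ω)⁻¹ * (x * a * x⁻¹) ∈ Z
    have h1 := hZE a a.2
    have h2 := hab _ h1.1 a a.2
    rwa [show (a : Ω)⁻¹ * (x * a * x⁻¹) = (a : Ω)⁻¹ * (⁅x, (a : Ω)⁆ * a) by group, h2.eq, inv_mul_cancel_left]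
  have hu3 : ∀ a : E, (a : Ω) ∈ Z → u a = a := fun a ha => Subtype.ext (by
    show x * a * x⁻¹ = (a : Ω)
    rw [(hZc a ha x hxS).symm.eq, mul_inv_cancel_right])
  obtain ⟨β, hβ, z, hzZ, htZ⟩ := exists_aut_moving hS hF hE hab huG hu1 hu2 hu3
  set t := β z with ht
  have hz1 : z ≠ 1 := fun h1 => htZ (by rw [ht, h1, map_one]; exact one_mem Z)
  letI : CommGroup E := { (inferInstance : Group E) with mul_comm := fun a b => Subtype.ext (hab a a.2 b b.2).eq }
  have hE3 : ∀ a : E, a ^ 3 = 1 := fun a => Subtype.ext (hexp a a.2)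
  have hord : ∀ a : E, a ≠ 1 → orderOf a = 3 := fun a ha => orderOf_eq_prime (hE3 a) ha
  -- `E = ⟨z⟩ × ⟨t⟩` and `Z = ⟨z⟩`
  have hgen : ∀ a : E, ∃ i j : ℤ, a = z ^ i * t ^ j := by
    intro a
    have hlt : Subgroup.zpowers z < Subgroup.zpowers z ⊔ Subgroup.zpowers t := by
      refine lt_of_le_of_ne le_sup_left fun hc => htZ ?_
      obtain ⟨i, hi⟩ := Subgroup.mem_zpowers_iff.1
        (hc.symm ▸ Subgroup.mem_sup_right (Subgroup.mem_zpowers t) : t ∈ Subgroup.zpowers z)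
      rw [← hi]
      exact Z.zpow_mem hzZ i
    have htop : Subgroup.zpowers z ⊔ Subgroup.zpowers t = ⊤ := by
      refine Subgroup.eq_top_of_le_card _ ?_
      obtain ⟨i, -, hi⟩ := (Nat.dvd_prime_pow Nat.prime_three).1
        (show Nat.card (Subgroup.zpowers z ⊔ Subgroup.zpowers t : Subgroup E) ∣ 3 ^ 2 from
          (show (3 : ℕ) ^ 2 = Nat.card E by rw [h9]; norm_num) ▸ Subgroup.card_subgroup_dvd_card _)
      have h1 : Nat.card (Subgroup.zpowers z) < Nat.card (Subgroup.zpowers z ⊔ Subgroup.zpowers t : Subgroup E) :=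
        lt_of_le_of_ne (Subgroup.card_le_of_le hlt.le) fun hc => hlt.ne
          (Subgroup.eq_of_le_of_card_ge hlt.le hc.ge)
      rw [Nat.card_zpowers, hord z hz1, hi] at h1
      rw [h9, hi]
      rcases (by omega : i = 0 ∨ i = 1 ∨ 2 ≤ i) with rfl | rfl | h2
      · omega
      · omega
      · exact le_trans (by norm_num) (Nat.pow_le_pow_right (show 1 ≤ 3 by norm_num) h2)
    obtain ⟨_, ⟨i, rfl⟩, _, ⟨j, rfl⟩, rfl⟩ := Subgroup.mem_sup.1 (htop.symm ▸ Subgroup.mem_top a)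
    exact ⟨i, j, rfl⟩
  have hZz : ∀ a : E, (a : Ω) ∈ Z → ∃ m : ℤ, a = z ^ m := by
    intro a ha
    obtain ⟨i, j, rfl⟩ := hgen a
    refine ⟨i, ?_⟩
    by_cases hj : (3 : ℤ) ∣ j
    · obtain ⟨q, rfl⟩ := hj
      rw [zpow_mul, show t ^ (3 : ℤ) = t ^ (3 : ℕ) from zpow_natCast t 3, hE3, one_zpow, mul_one]
    exfalso
    refine htZ ?_
    have h1 : ((t ^ j : E) : Ω) ∈ Z := by
      have := mul_mem (Z.zpow_mem hzZ (-i)) ha
      rwa [← Subgroup.coe_zpow, ← Subgroup.coe_mul, ← mul_assoc, ← zpow_add, neg_add_cancel, zpow_zero,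
        one_mul] at this
    obtain ⟨c, d, hcd⟩ := (Prime.coprime_iff_not_dvd (Nat.prime_iff_prime_int.1 Nat.prime_three)).2 hj
    rw [show t = (t ^ ((3 : ℕ) : ℤ)) ^ c * (t ^ j) ^ d by
      rw [← zpow_mul, ← zpow_mul, ← zpow_add, mul_comm _ c, mul_comm j, hcd, zpow_one],
      zpow_natCast, hE3, one_zpow, one_mul, Subgroup.coe_zpow]
    exact Z.zpow_mem h1 d
  -- transvections
  obtain ⟨m, hm⟩ := hZz (t⁻¹ * u t) (hu2 t)
  have hut : u t = t * z ^ m := by rw [← hm, mul_inv_cancel_left]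
  have huz : u z = z := hu3 z hzZ
  have hm3 : ¬ (3 : ℤ) ∣ m := fun ⟨q, hq⟩ => hu1 (MulEquiv.ext fun a => by
    obtain ⟨i, j, rfl⟩ := hgen a
    have : u t = t := by
      rw [hut, hq, zpow_mul, show z ^ (3 : ℤ) = z ^ (3 : ℕ) from zpow_natCast z 3, hE3, one_zpow, mul_one]
    rw [map_mul, map_zpow, map_zpow, huz, this]
    rfl)
  obtain ⟨u', hu'G, hu'z, hu't⟩ : ∃ u' ∈ F.autGroup E, u' z = z ∧ u' t = t * z := by
    rcases (by omega : m % 3 = 1 ∨ m % 3 = 2) with h1 | h2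
    · refine ⟨u, huG, huz, ?_⟩
      rw [hut]
      congr 1
      conv_lhs => rw [← Int.mul_ediv_add_emod m 3, zpow_add, zpow_mul, h1, zpow_one,
        show z ^ (3 : ℤ) = z ^ (3 : ℕ) from zpow_natCast z 3, hE3, one_zpow, one_mul]
    · refine ⟨u * u, mul_mem huG huG, by rw [MulAut.mul_apply, huz, huz], ?_⟩
      rw [MulAut.mul_apply, hut, map_mul, map_zpow, huz, hut, mul_assoc, ← zpow_add]
      congr 1
      conv_lhs => rw [show m + m = 3 * ((m + m) / 3) + 1 by omega, zpow_add, zpow_mul, zpow_one,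
        show z ^ (3 : ℤ) = z ^ (3 : ℕ) from zpow_natCast z 3, hE3, one_zpow, one_mul]
  -- the transvection fixing `t`
  obtain ⟨v, hvG, hvt, k, hvz, hk⟩ : ∃ v ∈ F.autGroup E, v t = t ∧ ∃ k : ℤ, v z = z * t ^ k ∧ ¬ (3 : ℤ) ∣ k := by
    refine ⟨β * u * β⁻¹, mul_mem (mul_mem hβ huG) (inv_mem hβ), ?_, ?_⟩
    · show β (u (β⁻¹ (β z))) = β z
      rw [MulAut.inv_apply_self, huz]
    · obtain ⟨k, hk⟩ := hZz ((β⁻¹ z)⁻¹ * u (β⁻¹ z)) (hu2 (β⁻¹ z))
      have hvz : (β * u * β⁻¹) z = z * t ^ k := by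
        show β (u (β⁻¹ z)) = _
        rw [← mul_inv_cancel_left (β⁻¹ z) (u (β⁻¹ z)), hk, map_mul, map_zpow, MulAut.apply_inv_self]
      refine ⟨k, hvz, fun ⟨q, hq⟩ => hu1 ?_⟩
      have hvz' : (β * u * β⁻¹) z = z := by
        rw [hvz, hq, zpow_mul, show t ^ (3 : ℤ) = t ^ (3 : ℕ) from zpow_natCast t 3, hE3, one_zpow, mul_one]
      have hvt' : (β * u * β⁻¹) t = t := by
        show β (u (β⁻¹ (β z))) = β z
        rw [MulAut.inv_apply_self, huz]
      have hv : β * u * β⁻¹ = 1 := MulEquiv.ext fun a => by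
        obtain ⟨i, j, rfl⟩ := hgen a
        rw [map_mul, map_zpow, map_zpow, hvz', hvt']
        rfl
      simpa using hv
  obtain ⟨v', hv'G, hv't, hv'z⟩ : ∃ v' ∈ F.autGroup E, v' t = t ∧ v' z = z * t⁻¹ := by
    rcases (by omega : k % 3 = 2 ∨ k % 3 = 1) with h2 | h1
    · refine ⟨v, hvG, hvt, ?_⟩
      rw [hvz]
      congr 1
      conv_lhs => rw [show k = 3 * (k / 3 + 1) + (-1) by omega, zpow_add, zpow_mul, zpow_neg_one,
        show t ^ (3 : ℤ) = t ^ (3 : ℕ) from zpow_natCast t 3, hE3, one_zpow, one_mul]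
    · refine ⟨v * v, mul_mem hvG hvG, by rw [MulAut.mul_apply, hvt, hvt], ?_⟩
      rw [MulAut.mul_apply, hvz, map_mul, map_zpow, hvt, hvz, mul_assoc, ← zpow_add]
      congr 1
      conv_lhs => rw [show k + k = 3 * ((k + k) / 3 + 1) + (-1) by omega, zpow_add, zpow_mul, zpow_neg_one,
        show t ^ (3 : ℤ) = t ^ (3 : ℕ) from zpow_natCast t 3, hE3, one_zpow, one_mul]
  -- inversion
  set w := u' * v' * u' with hw
  have hwz : w z = t⁻¹ := by
    show u' (v' (u' z)) = _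
    rw [hu'z, hv'z, map_mul, map_inv, hu'z, hu't, mul_inv_rev, ← mul_assoc, mul_inv_cancel, one_mul]
  have hwt : w t = z := by
    show u' (v' (u' t)) = _
    rw [hu't, map_mul, hv't, hv'z, mul_comm z, ← mul_assoc, mul_inv_cancel, one_mul, hu'z]
  have hinv : ∀ a : E, (w * w) a = a⁻¹ := by
    intro a
    obtain ⟨i, j, rfl⟩ := hgen a
    rw [MulAut.mul_apply, map_mul, map_zpow, map_zpow, hwz, hwt, map_mul, map_zpow, map_zpow, map_inv, hwz, hwt,
      mul_inv, inv_zpow, inv_zpow]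
  set ι := w * w with hιdef
  have hιG : ι ∈ F.autGroup E :=
    mul_mem (mul_mem (mul_mem hu'G hv'G) hu'G) (mul_mem (mul_mem hu'G hv'G) hu'G)
  -- extend to `S`
  let φ : E →* Ω := E.subtype.comp ι.toMonoidHom
  have hφ : φ ∈ F.Hom E := (FS.mem_autGroup hES).1 hιG
  have hrange : φ.range = E := by
    ext y
    constructor
    · rintro ⟨a, rfl⟩
      exact (ι a).2
    · intro hy
      exact ⟨ι⁻¹ ⟨y, hy⟩, congrArg Subtype.val (MulAut.apply_inv_self E ι ⟨y, hy⟩)⟩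
  obtain ⟨ψ, hψ, hψe⟩ := (FS.receptive_of_fullyNormalized hS hF hE.2.1).2 E φ hφ hrange
  have hN : S ≤ extender S E φ := fun g hg => Subgroup.subset_closure (by
    refine ⟨hg, ?_, g, hg, ?_⟩
    · refine Subgroup.mem_normalizer_iff.2 fun a => ⟨fun ha => hconj g hg a ha, fun ha => ?_⟩
      have := hconj g⁻¹ (inv_mem hg) _ ha
      rwa [show g⁻¹ * (g * a * g⁻¹) * g⁻¹⁻¹ = a by group] at this
    · intro a hb
      show ((ι ⟨g * a * g⁻¹, hb⟩ : E) : Ω) = g * ((ι a : E) : Ω) * g⁻¹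
      rw [hinv, hinv, Subgroup.coe_inv, Subgroup.coe_inv]
      group)
  have hψE : ∀ (a : Ω) (ha : a ∈ E) (haN : a ∈ extender S E φ), ψ ⟨a, haN⟩ = a⁻¹ := fun a ha haN => by
    rw [hψe a ha haN]
    show ((ι ⟨a, ha⟩ : E) : Ω) = a⁻¹
    rw [hinv]
    rfl
  have hψx : ψ ⟨x, hN hxS⟩ ∈ S := FS.apply_mem hψ _
  obtain ⟨e, ν, he, hxe⟩ := hdec _ hψx
  set c := ⁅x, t₀⁆ with hc
  have hcZ : c ∈ Z := hZE t₀ ht₀
  have hcx : ∀ ν : ℤ, ⁅x ^ ν, t₀⁻¹⁆ = c ^ (-ν) := by
    intro ν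
    have hcc : ∀ g ∈ S, Commute c g := hZc c hcZ
    have h1 : t₀⁻¹ * x * t₀ = c * x := by
      calc t₀⁻¹ * x * t₀ = t₀⁻¹ * (c * t₀) * x := by rw [hc]; group
        _ = t₀⁻¹ * (t₀ * c) * x := by rw [(hcc t₀ (hES ht₀)).eq]
        _ = c * x := by group
    have h2 : t₀⁻¹ * x ^ ν * t₀ = c ^ ν * x ^ ν := by
      rw [show t₀⁻¹ * x ^ ν * t₀ = (t₀⁻¹ * x * t₀⁻¹⁻¹) ^ ν by rw [conj_zpow, inv_inv],
        inv_inv, h1, (hcc x hxS).mul_zpow]
    calc ⁅x ^ ν, t₀⁻¹⁆ = x ^ ν * (t₀⁻¹ * x ^ ν * t₀)⁻¹ := by group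
      _ = x ^ ν * (c ^ ν * x ^ ν)⁻¹ := by rw [h2]
      _ = c ^ (-ν) := by group
  have hν : (3 : ℤ) ∣ ν - 1 := by
    have h1 : ψ ⟨c, hN (hES hcZ.1)⟩ = c⁻¹ := hψE c hcZ.1 _
    have h2 : ψ ⟨c, hN (hES hcZ.1)⟩ = ⁅ψ ⟨x, hN hxS⟩, ψ ⟨t₀, hN (hES ht₀)⟩⁆ := by
      rw [← map_commutatorElement]
      rfl
    rw [h1, hψE t₀ ht₀, hxe, show ⁅e * x ^ ν, t₀⁻¹⁆ = e * ⁅x ^ ν, t₀⁻¹⁆ * e⁻¹ * ⁅e, t₀⁻¹⁆ by group,
      hcx, commutatorElement_eq_one_iff_commute.2 (hab e he _ (inv_mem ht₀)), mul_one,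
      (hab e he _ (E.zpow_mem hcZ.1 _)).eq, mul_inv_cancel_right] at h2
    have h3 : c ^ (ν - 1) = 1 := by
      rw [sub_eq_add_neg, zpow_add, zpow_neg_one, h2, ← zpow_add, add_neg_cancel, zpow_zero]
    have h4 := orderOf_dvd_iff_zpow_eq_one.2 h3
    rwa [orderOf_eq_prime (hexp c hcZ.1) hc0] at h4
  obtain ⟨q, hq⟩ := hν
  set e' := e * (x ^ 3) ^ q with he'
  have he'E : e' ∈ E := mul_mem he (zpow_mem (hpow x hxS) q)
  have hxe' : ψ ⟨x, hN hxS⟩ = e' * x := by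
    rw [hxe, he', show ν = 3 * q + 1 by omega, zpow_add, zpow_one, zpow_mul,
      show x ^ (3 : ℤ) = x ^ (3 : ℕ) from zpow_natCast x 3, mul_assoc]
  have hcube : ∀ a ∈ E, (a * x) ^ 3 = x ^ 3 := by
    intro a ha
    set d := ⁅x, a⁆ with hd
    have hdd : ∀ g ∈ S, Commute d g := hZc d (hZE a ha)
    have haS := hES ha
    have h1 : x * a = d * a * x := by rw [hd]; group
    have hd3 : d ^ 3 = 1 := hexp d (hZE a ha).1
    have h2 : x * (x * a) = d * d * a * x * x := by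
      calc x * (x * a) = x * (d * a * x) := by rw [h1]
        _ = (x * d) * (a * x) := by simp only [mul_assoc]
        _ = (d * x) * (a * x) := by rw [(hdd x hxS).eq]
        _ = d * (x * a) * x := by simp only [mul_assoc]
        _ = d * (d * a * x) * x := by rw [h1]
        _ = d * d * a * x * x := by simp only [mul_assoc]
    calc (a * x) ^ 3 = a * (x * a) * (x * a) * x := by simp only [pow_succ, pow_zero, one_mul, mul_assoc]
      _ = a * (d * a * x) * (x * a) * x := by rw [h1]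
      _ = a * (d * a) * (x * (x * a)) * x := by simp only [mul_assoc]
      _ = a * (d * a) * (d * d * a * x * x) * x := by rw [h2]
      _ = a * (a * d) * (d * d * a * x * x) * x := by rw [(hdd a haS).eq]
      _ = a * a * (d * d * d) * a * (x * x * x) := by simp only [mul_assoc]
      _ = a ^ 3 * x ^ 3 := by
        rw [show d * d * d = 1 by rw [← hd3]; simp only [pow_succ, pow_zero, one_mul], mul_one]
        simp only [pow_succ, pow_zero, one_mul]
      _ = x ^ 3 := by rw [hexp a ha, one_mul]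
  have hx3 : x ^ 3 = 1 := by
    have h1 : ψ ⟨x ^ 3, hN (pow_mem hxS 3)⟩ = (x ^ 3)⁻¹ := hψE _ (hpow x hxS) _
    have h2 : ψ ⟨x ^ 3, hN (pow_mem hxS 3)⟩ = ψ ⟨x, hN hxS⟩ ^ 3 := by
      rw [← map_pow]
      rfl
    rw [h1, hxe', hcube e' he'E] at h2
    have h6 : (x ^ 3) ^ 2 = 1 := by rw [pow_two, ← mul_inv_cancel (x ^ 3), h2]
    have h9 : (x ^ 3) ^ 3 = 1 := hexp _ (hpow x hxS)
    rwa [pow_succ, h6, one_mul] at h9
  intro g hg
  obtain ⟨a, k, ha, rfl⟩ := hdec g hg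
  have hxz : x ^ (3 : ℤ) = 1 := by rw [show x ^ (3 : ℤ) = x ^ (3 : ℕ) from zpow_natCast x 3, hx3]
  rw [← Int.mul_ediv_add_emod k 3, zpow_add, zpow_mul, hxz, one_zpow, one_mul]
  rcases (by omega : k % 3 = 0 ∨ k % 3 = 1 ∨ k % 3 = 2) with h0 | h0 | h0 <;> rw [h0]
  · rw [zpow_zero, mul_one, hexp a ha]
  · rw [zpow_one, hcube a ha, hx3]
  · have hb := hconj x hxS _ (inv_mem ha)
    have h2 : a * x ^ (2 : ℤ) = (x * a⁻¹ * x⁻¹ * x)⁻¹ := by
      rw [show (2 : ℤ) = 3 + -1 by norm_num, zpow_add, hxz]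
      group
    rw [h2, inv_pow, hcube _ hb, hx3, inv_one]

end Cfsg.Agent.Lib.MaxClass
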