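import Cfsg.Agent.Lib.MaxClass.Rank

/-!
# Subgroups outside `P 1` are two-generated; the `3`-groups of maximal class

Owner: helper2.  For `p = 3`, `|S| ≥ 81`: every subgroup needs at most two generators, unless `n = 4`
and `P 1` is elementary abelian, when `S` is a Sylow subgroup of `Perm (Fin 9)`.
-/

set_option autoImplicit false
set_option linter.style.haveILetI false
set_option linter.unusedSectionVars false

open scoped commutatorElement Pointwise

namespace Cfsg.Agent.Lib.MaxClass

universe u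

section general

variable {p n : ℕ} [hp : Fact p.Prime] {S : Type u} [Group S] [Finite S]

theorem exists_gens_of_le (hS : IsPGroup p S) (H : Subgroup S) {m : ℕ}
    (hm : Nat.card H ≤ p ^ m * Nat.card (powClosure p H)) :
    ∃ T : Finset S, T.card ≤ m ∧ Subgroup.closure (T : Set S) = H := by
  classical
  have hH := hS.to_subgroup H
  have hle : powClosure p H ≤ (frattini H).map H.subtype :=
    (Subgroup.closure_le _).2 fun _ ⟨g, hg, hy⟩ =>
      ⟨(⟨g, hg⟩ : H) ^ p, PGroups.pow_mem_frattini hH _, hy.symm⟩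
  have h1 := Subgroup.card_le_of_le hle
  rw [Subgroup.card_map_of_injective H.subtype_injective] at h1
  have h2 := hm.trans (Nat.mul_le_mul_left _ h1)
  rw [← Subgroup.index_mul_card (frattini H)] at h2
  obtain ⟨T, hT, hT'⟩ := Elem70.GenBound.exists_generators hH m
    (Nat.le_of_mul_le_mul_right h2 Nat.card_pos)
  refine ⟨T.image H.subtype, Finset.card_image_le.trans hT, ?_⟩
  rw [Finset.coe_image, ← MonoidHom.map_closure, hT', ← MonoidHom.range_eq_map, Subgroup.range_subtype]

variable (h : MC p n S)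
include h

/-- A subgroup not inside `P 1` is generated by two elements, if everything outside `P 1` is uniform. -/
theorem MC.two_gen_of_not_le (hu : ∀ t, t ∉ P S 1 → Uniform n t) {H : Subgroup S} (hH : ¬ H ≤ P S 1) :
    ∃ T : Finset S, T.card ≤ 2 ∧ Subgroup.closure (T : Set S) = H := by
  classical
  obtain ⟨t, htH, ht⟩ := SetLike.not_le_iff_exists.1 hH
  have hdec : ∀ K : Subgroup S, t ∈ K → H ⊓ P S 1 ≤ K → H ≤ K := by
    intro K htK hK g hg
    obtain ⟨a, ha, _, ⟨k, rfl⟩, rfl⟩ := Subgroup.mem_sup_of_normal_left.1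
      ((h.P_one_sup ht).symm ▸ Subgroup.mem_top g : g ∈ P S 1 ⊔ Subgroup.zpowers t)
    have haH : a ∈ H := by
      have := mul_mem hg (inv_mem (zpow_mem htH k))
      rwa [mul_inv_cancel_right] at this
    exact mul_mem (hK ⟨haH, ha⟩) (zpow_mem htK k)
  by_cases hbot : H ⊓ P S 1 = ⊥
  · refine ⟨{t}, by simp, ?_⟩
    rw [Finset.coe_singleton, ← Subgroup.zpowers_eq_closure]
    exact le_antisymm ((Subgroup.zpowers_le).2 htH) (hdec _ (Subgroup.mem_zpowers t) (hbot.le.trans bot_le))
  -- the top layer met by `H ⊓ P 1`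
  have hex : ∃ i, ¬ H ⊓ P S 1 ≤ P S (i + 1) := ⟨n, fun hle => hbot (le_bot_iff.1
    (hle.trans (h.P_eq_bot (Nat.le_succ n)).le))⟩
  set i := Nat.find hex with hi
  have hi' : ¬ H ⊓ P S 1 ≤ P S (i + 1) := Nat.find_spec hex
  have hi1 : 1 ≤ i := by
    rcases Nat.eq_zero_or_pos i with h0 | h0
    · exact absurd inf_le_right (h0 ▸ hi')
    · exact h0
  have hile : H ⊓ P S 1 ≤ P S i := by
    have := Nat.find_min hex (show i - 1 < i by omega)
    rw [not_not, show i - 1 + 1 = i by omega] at this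
    exact this
  obtain ⟨u, hu1, hu'⟩ := SetLike.not_le_iff_exists.1 hi'
  have huP : u ∈ P S i := hile hu1
  refine ⟨{u, t}, (Finset.card_insert_le _ _).trans (by simp), ?_⟩
  set K := Subgroup.closure ((({u, t} : Finset S) : Set S)) with hK
  have huK : u ∈ K := Subgroup.subset_closure (by simp)
  have htK : t ∈ K := Subgroup.subset_closure (by simp)
  have hcm : ∀ k, cm t k u ∈ K := by
    intro k
    induction k with
    | zero => exact huK
    | succ k ih =>
      show ⁅cm t k u, t⁆ ∈ K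
      rw [commutatorElement_def]
      exact mul_mem (mul_mem (mul_mem ih htK) (inv_mem ih)) (inv_mem htK)
  have hP : ∀ d k, k + d = n → i ≤ k → P S k ≤ K := by
    intro d
    induction d with
    | zero =>
      intro k hk _
      rw [show k = n by omega, h.P_n]
      exact bot_le
    | succ d ih =>
      intro k hk hik a ha
      have hy : cm t (k - i) u ∈ P S k := by
        have := cm_mem hi1 huP t (k - i)
        rwa [show i + (k - i) = k by omega] at this
      have hy' : cm t (k - i) u ∉ P S (k + 1) := by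
        have := MC.Uniform.cm_notMem h (hu t ht) hi1 huP hu' (k - i) (by omega)
        rwa [show i + (k - i) + 1 = k + 1 by omega] at this
      obtain ⟨m, r, hr, rfl⟩ := h.exists_coord (by omega) (by omega) hy hy' ha
      exact mul_mem (ih (k + 1) (by omega) (by omega) hr) (zpow_mem (hcm _) m)
  refine le_antisymm ((Subgroup.closure_le _).2 fun z hz => ?_) (hdec K htK ?_)
  · rcases Finset.mem_insert.1 (Finset.mem_coe.1 hz) with rfl | hz
    · exact hu1.1
    · rw [Finset.mem_singleton] at hz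
      exact hz ▸ htH
  · rcases Nat.lt_or_ge i n with hin | hin
    · exact hile.trans (hP (n - i) i (by omega) le_rfl)
    · exact hile.trans ((h.P_eq_bot hin).le.trans bot_le)

end general

section three

variable [Fact (Nat.Prime 3)] {n : ℕ} {S : Type u} [Group S] [Finite S] (h : MC 3 n S)
include h

/-- The `3`-groups of maximal class of order at least `81`. -/
theorem MC.three_dichotomy :
    (∀ H : Subgroup S, ∃ T : Finset S, T.card ≤ 2 ∧ Subgroup.closure (T : Set S) = H) ∨
      ∃ W : Sylow 3 (Equiv.Perm (Fin 9)), Nonempty (S ≃* (W : Subgroup (Equiv.Perm (Fin 9)))) := by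
  classical
  have h4 := h.four_le
  have hS := h.isPGroup
  have hu : ∀ t, t ∉ P S 1 → Uniform n t := fun t ht => by
    rcases Nat.lt_or_ge 4 n with hn | hn
    · exact h.uniform_of_deg (h.deg le_rfl (Or.inr (by omega))) ht
    · refine h.uniform_of ht fun i h2 hin => ?_
      obtain rfl : i = 2 := by omega
      exact ht
  by_cases hex : 4 < n ∨ ∃ g ∈ P S 1, g ^ 3 ≠ 1
  · refine Or.inl fun H => ?_
    by_cases hH : H ≤ P S 1
    swap
    · exact h.two_gen_of_not_le hu hH
    refine exists_gens_of_le hS H ?_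
    rcases Nat.lt_or_ge 4 n with hn | hn
    · have h2 := h.card_inf_P_le le_rfl (by omega) H (n - 1) 1 (by omega) le_rfl
      rw [inf_eq_left.2 hH] at h2
      exact h2.trans (Nat.mul_le_mul_left _ (Subgroup.card_le_of_le inf_le_left))
    obtain ⟨g, hg, hg3⟩ := hex.resolve_left (by omega)
    have hpos : 0 < Nat.card (powClosure 3 H) := Nat.card_pos
    have hP1 : Nat.card (P S 1) = 3 ^ 3 := by rw [h.card_P le_rfl (by omega), show n - 1 = 3 by omega]
    obtain ⟨e, he3, he⟩ := (Nat.dvd_prime_pow Nat.prime_three).1 (hP1 ▸ Subgroup.card_dvd_of_le hH)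
    rcases Nat.lt_or_ge e 3 with h3 | h3
    · rw [he]
      exact (Nat.pow_le_pow_right (by norm_num) (by omega)).trans (Nat.le_mul_of_pos_right _ hpos)
    · have hHeq : H = P S 1 := Subgroup.eq_of_le_of_card_ge hH (by rw [he, hP1, show e = 3 by omega])
      have hne : powClosure 3 H ≠ ⊥ := fun hb => hg3 (Subgroup.mem_bot.1
        (hb ▸ Subgroup.subset_closure ⟨g, hHeq ▸ hg, rfl⟩))
      obtain ⟨a, ha⟩ := IsPGroup.iff_card.1 (hS.to_subgroup (powClosure 3 H))
      have ha1 : a ≠ 0 := fun h0 => hne (Subgroup.card_eq_one.1 (by rw [ha, h0, pow_zero]))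
      rw [he, ha, ← pow_add]
      exact Nat.pow_le_pow_right (by norm_num) (by omega)
  push Not at hex
  obtain ⟨hn, hexp⟩ := hex
  obtain rfl : n = 4 := by omega
  right
  have hab : ∀ a ∈ P S 1, ∀ b ∈ P S 1, Commute a b := by
    obtain ⟨s, hs, hs'⟩ := h.exists_notMem_succ le_rfl (by omega)
    have hc : ∀ z ∈ P S 2, ∀ g ∈ P S 1, Commute z g := fun z hz g hg => by
      rw [← commutatorElement_eq_one_iff_commute]
      exact h.eq_one (i := 2 + 1 + 1) (by omega) (Deg.three h 2 1 (by omega) le_rfl (by omega) z hz g hg)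
    intro a ha b hb
    obtain ⟨i, r, hr, rfl⟩ := h.exists_coord le_rfl (by omega) hs hs' ha
    obtain ⟨j, r', hr', rfl⟩ := h.exists_coord le_rfl (by omega) hs hs' hb
    exact Commute.mul_left
      (Commute.mul_right (hc r hr r' (P_succ_le 1 hr')) ((hc r hr s hs).zpow_right j))
      (Commute.mul_right ((hc r' hr' s hs).symm.zpow_left i) ((Commute.refl _).zpow_zpow i j))
  have hP1 : Nat.card (P S 1) = 3 ^ 3 := h.card_P le_rfl (by omega)
  have hP3 : Nat.card (P S 3) = 3 := h.card_P (by omega) (by omega)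
  obtain ⟨a, ha, ha3⟩ : ∃ a ∈ P S 1, a ∉ P S 3 := by
    refine SetLike.exists_of_lt (lt_of_le_of_ne (P_anti (by omega)) fun hc => ?_)
    rw [hc, hP1] at hP3
    omega
  have hmem : ∀ (L : Subgroup S) (x : S), x ∈ P S 1 → L ≤ P S 1 → ∀ g ∈ L ⊔ Subgroup.zpowers x,
      ∃ l ∈ L, ∃ j : ℕ, j < 3 ∧ g = l * x ^ j := by
    intro L x hx hL g hg
    have hLn : Subgroup.zpowers x ≤ Subgroup.normalizer (L : Set S) := (Subgroup.zpowers_le).2
      (Subgroup.mem_normalizer_iff.2 fun l => by
        constructor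
        · intro hl
          rw [show x * l * x⁻¹ = l by rw [(hab x hx l (hL hl)).eq, mul_inv_cancel_right]]
          exact hl
        · intro hl
          have hlP : l ∈ P S 1 := by
            have := mul_mem (mul_mem (inv_mem hx) (hL hl)) hx
            rwa [show x⁻¹ * (x * l * x⁻¹) * x = l by group] at this
          rwa [show x * l * x⁻¹ = l by rw [(hab x hx l hlP).eq, mul_inv_cancel_right]] at hl)
    obtain ⟨l, hl, _, ⟨k, rfl⟩, rfl⟩ : g ∈ (L : Set S) * (Subgroup.zpowers x : Set S) := by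
      rw [← Subgroup.coe_mul_of_right_le_normalizer_left L (Subgroup.zpowers x) hLn]
      exact hg
    refine ⟨l, hl, (k % 3).toNat, by omega, ?_⟩
    congr 1
    show x ^ k = _
    have h3 : x ^ ((3 : ℕ) : ℤ) = 1 := by rw [zpow_natCast, hexp x hx]
    conv_lhs => rw [← Int.mul_ediv_add_emod k 3, zpow_add, zpow_mul]
    rw [show x ^ (3 : ℤ) = 1 from h3, one_zpow, one_mul, ← zpow_natCast, Int.toNat_of_nonneg (by omega)]
  have hsup : ∀ (L : Subgroup S) (x : S), x ∈ P S 1 → L ≤ P S 1 →
      Nat.card (L ⊔ Subgroup.zpowers x : Subgroup S) ≤ Nat.card L * 3 := by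
    intro L x hx hL
    let f : L × Fin 3 → (L ⊔ Subgroup.zpowers x : Subgroup S) := fun z =>
      ⟨(z.1 : S) * x ^ (z.2 : ℕ), mul_mem (Subgroup.mem_sup_left z.1.2)
        (pow_mem (Subgroup.mem_sup_right (Subgroup.mem_zpowers x)) _)⟩
    have hsurj : Function.Surjective f := fun ⟨g, hg⟩ => by
      obtain ⟨l, hl, j, hj, rfl⟩ := hmem L x hx hL g hg
      exact ⟨(⟨l, hl⟩, ⟨j, hj⟩), rfl⟩
    refine (Nat.card_le_card_of_surjective f hsurj).trans (le_of_eq ?_)
    rw [Nat.card_prod, Nat.card_fin]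
  have haz : Nat.card (Subgroup.zpowers a) = 3 := by
    rw [Nat.card_zpowers]
    exact orderOf_eq_prime (hexp a ha) fun h1 => ha3 (h1 ▸ one_mem _)
  have hle2 : P S 3 ⊔ Subgroup.zpowers a ≤ P S 1 := sup_le (P_anti (by omega)) ((Subgroup.zpowers_le).2 ha)
  obtain ⟨b, hb, hb'⟩ : ∃ b ∈ P S 1, b ∉ P S 3 ⊔ Subgroup.zpowers a := by
    refine SetLike.exists_of_lt (lt_of_le_of_ne hle2 fun hc => ?_)
    have := hsup (P S 3) a ha (P_anti (by omega))
    rw [hc, hP1, hP3] at this
    omega
  set K := Subgroup.zpowers a ⊔ Subgroup.zpowers b with hKdef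
  have hKP : K ≤ P S 1 := sup_le ((Subgroup.zpowers_le).2 ha) ((Subgroup.zpowers_le).2 hb)
  have hK9 : Nat.card K ≤ 9 := by
    have := hsup (Subgroup.zpowers a) b hb ((Subgroup.zpowers_le).2 ha)
    rw [haz] at this
    exact this
  have hK' : Nat.card K = 9 := by
    obtain ⟨i, -, hi⟩ := (Nat.dvd_prime_pow Nat.prime_three).1 (hP1 ▸ Subgroup.card_dvd_of_le hKP)
    have hlt : Subgroup.zpowers a < K := lt_of_le_of_ne le_sup_left fun hc =>
      hb' (Subgroup.mem_sup_right (hc.symm ▸ (Subgroup.mem_sup_right (Subgroup.mem_zpowers b) : b ∈ K)))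
    have h1 : Nat.card (Subgroup.zpowers a) < Nat.card K := by
      refine lt_of_le_of_ne (Subgroup.card_le_of_le hlt.le) fun hc => hlt.ne ?_
      exact Subgroup.eq_of_le_of_card_ge hlt.le hc.ge
    rw [haz, hi] at h1
    rw [hi] at hK9 ⊢
    rcases (by omega : i = 0 ∨ i = 1 ∨ i = 2 ∨ 3 ≤ i) with rfl | rfl | rfl | h3
    · omega
    · omega
    · norm_num
    · have := Nat.pow_le_pow_right (show 1 ≤ 3 by norm_num) h3
      omega
  have hK3 : ¬ P S 3 ≤ K := fun hle => by
    have hsK : P S 3 ⊔ Subgroup.zpowers a ≤ K := sup_le hle le_sup_left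
    have hlt : P S 3 < P S 3 ⊔ Subgroup.zpowers a := lt_of_le_of_ne le_sup_left fun hc =>
      ha3 (hc.symm ▸ Subgroup.mem_sup_right (Subgroup.mem_zpowers a))
    have h1 : Nat.card (P S 3) < Nat.card (P S 3 ⊔ Subgroup.zpowers a : Subgroup S) := by
      refine lt_of_le_of_ne (Subgroup.card_le_of_le hlt.le) fun hc => hlt.ne ?_
      exact Subgroup.eq_of_le_of_card_ge hlt.le hc.ge
    have h2 : Nat.card (P S 3 ⊔ Subgroup.zpowers a : Subgroup S) ∣ 9 := hK' ▸ Subgroup.card_dvd_of_le hsK
    obtain ⟨i, hi2, hi⟩ := (Nat.dvd_prime_pow Nat.prime_three).1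
      (show Nat.card (P S 3 ⊔ Subgroup.zpowers a : Subgroup S) ∣ 3 ^ 2 from h2)
    have heq : P S 3 ⊔ Subgroup.zpowers a = K := Subgroup.eq_of_le_of_card_ge hsK (by
      rw [hi, hK']
      rcases (by omega : i = 0 ∨ i = 1 ∨ i = 2) with rfl | rfl | rfl <;> omega)
    exact hb' (heq.symm ▸ Subgroup.mem_sup_right (Subgroup.mem_zpowers b))
  -- faithful action on the nine cosets of `K`
  have hcore : K.normalCore = ⊥ := by
    by_contra hne
    obtain ⟨z, hz, hz1⟩ : ∃ z ∈ P S 3, z ∈ K.normalCore ∧ z ≠ 1 := by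
      obtain ⟨z, hz, hzc, hz1⟩ : ∃ z, z ∈ K.normalCore ∧ z ∈ Subgroup.center S ∧ z ≠ 1 := by
        obtain ⟨⟨z, hz⟩, hz1⟩ := Subgroup.ne_bot_iff_exists_ne_one.1
          (Cfsg.Agent.Lib.PGroups.normal_inf_center_ne_bot hS _ hne)
        exact ⟨z, hz.1, hz.2, fun h1 => hz1 (Subtype.ext h1)⟩
      obtain ⟨t, ht⟩ : ∃ t, t ∉ P S 1 := by
        by_contra hall
        push Not at hall
        exact h.P_one_ne_top (eq_top_iff.2 fun g _ => hall g)
      exact ⟨z, MC.Uniform.mem_last h (hu t ht) (hKP (K.normalCore_le hz))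
        (Subgroup.mem_center_iff.1 hzc t).symm, hz, hz1⟩
    refine hK3 ((Subgroup.eq_of_le_of_card_ge ((Subgroup.zpowers_le).2 hz) ?_).ge.trans
      ((Subgroup.zpowers_le).2 (K.normalCore_le hz1.1)))
    rw [hP3, Nat.card_zpowers, orderOf_eq_prime (hexp z (P_anti (by omega) hz)) hz1.2]
  have hinj : Function.Injective (MulAction.toPermHom S (S ⧸ K)) := by
    rw [← MonoidHom.ker_eq_bot_iff, ← Subgroup.normalCore_eq_ker, hcore]
  have hidx : Nat.card (S ⧸ K) = 9 := by
    have h1 := K.card_mul_index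
    rw [hK', h.card, Subgroup.index_eq_card] at h1
    omega
  let e : (S ⧸ K) ≃ Fin 9 := (Finite.equivFin _).trans (finCongr hidx)
  let f : S →* Equiv.Perm (Fin 9) := e.permCongrHom.toMonoidHom.comp (MulAction.toPermHom S (S ⧸ K))
  have hf : Function.Injective f := e.permCongrHom.injective.comp hinj
  have hW : Nat.card f.range = 3 ^ (Nat.card (Equiv.Perm (Fin 9))).factorization 3 := by
    rw [← Nat.card_congr (MonoidHom.ofInjective hf).toEquiv, h.card, Nat.card_perm, Nat.card_fin]
    congr 1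
    have hfac : Nat.factorial 9 = 3 ^ 4 * 4480 := by decide
    rw [hfac, Nat.factorization_mul (by norm_num) (by norm_num), Nat.Prime.factorization_pow Nat.prime_three,
      Finsupp.add_apply, Finsupp.single_eq_same, Nat.factorization_eq_zero_of_not_dvd (by norm_num : ¬ 3 ∣ 4480)]
  exact ⟨Sylow.ofCard f.range hW, ⟨MonoidHom.ofInjective hf⟩⟩

end three

end Cfsg.Agent.Lib.MaxClass
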