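import Cfsg.Agent.Lib.MaxClass.Wreath

/-!
# Uniform elements and the `p`-power map on the layers

Owner: helper2.  An element `t` is uniform when commutation with `t` maps every layer `P i / P (i+1)`,
`1 ≤ i ≤ n - 2`, injectively to the next one.  Then `t` has centraliser of order `p ^ 2`, and `x ↦ x ^ p`
maps the layer `i ≥ 2` onto the layer `i + p - 1`.
-/

set_option autoImplicit false
set_option linter.style.haveILetI false
set_option linter.unusedSectionVars false

open scoped commutatorElement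

namespace Cfsg.Agent.Lib.MaxClass

universe u

variable {p n : ℕ} [hp : Fact p.Prime] {S : Type u} [Group S] [Finite S]

/-- Plain compatibility of the series with commutators. -/
theorem comm_le {i j : ℕ} (hi : 1 ≤ i) (hj : 1 ≤ j) {x y : S} (hx : x ∈ P S i) (hy : y ∈ P S j) :
    ⁅x, y⁆ ∈ P S (i + j) := by
  rcases Nat.lt_or_ge i 2 with h1 | h1
  · obtain rfl : i = 1 := by omega
    rw [Nat.add_comm]
    exact comm_mem' hj hy x
  rcases Nat.lt_or_ge j 2 with h2 | h2
  · obtain rfl : j = 1 := by omega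
    exact comm_mem hi hx y
  rw [P_eq_lcs h1] at hx
  rw [P_eq_lcs h2] at hy
  rw [P_eq_lcs (by omega)]
  have := Cfsg.Agent.Lib.PGroupTheory.commutator_top_lowerCentralSeries_le (j - 1) (i - 1)
    (Subgroup.commutator_mem_commutator hx hy)
  rwa [show i - 1 + (j - 1) + 1 = i + j - 1 by omega] at this

/-- Two-step centralisers. -/
def M (S : Type u) [Group S] (i : ℕ) : Subgroup S := relCentralizer (P S i) (P S (i + 2))

theorem mem_M {i : ℕ} {g : S} : g ∈ M S i ↔ ∀ a ∈ P S i, ⁅a, g⁆ ∈ P S (i + 2) := mem_relCentralizer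

theorem P_two_le_M {i : ℕ} (hi : 1 ≤ i) : P S 2 ≤ M S i := fun _ hg => mem_M.2 fun _ ha =>
  comm_le hi (by omega) ha hg

variable (h : MC p n S)

/-- Uniform elements. -/
def Uniform (n : ℕ) (t : S) : Prop :=
  ∀ i, 1 ≤ i → i + 2 ≤ n → ∀ x ∈ P S i, ⁅x, t⁆ ∈ P S (i + 2) → x ∈ P S (i + 1)

include h

theorem MC.P_one_sup {t : S} (ht : t ∉ P S 1) : P S 1 ⊔ Subgroup.zpowers t = ⊤ := by
  by_contra hne
  have := h.eq_of_index_prime h.index_P_one le_sup_left hne
  exact ht (this.symm ▸ Subgroup.mem_sup_right (Subgroup.mem_zpowers t))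

theorem MC.M_ne_top {i : ℕ} (hi : 1 ≤ i) (hin : i + 2 ≤ n) : M S i ≠ ⊤ := by
  intro htop
  rcases Nat.lt_or_ge i 2 with h2 | h2
  · obtain rfl : i = 1 := by omega
    -- `⁅P 1, S⁆ ≤ P 3` forces `⁅S, S⁆ ≤ P 3`
    obtain ⟨t, -, ht⟩ : ∃ t : S, True ∧ t ∉ P S 1 := by
      by_contra hne
      push Not at hne
      exact h.P_one_ne_top (eq_top_iff.2 fun g _ => hne g trivial)
    have hle : P S 2 ≤ P S 3 := by
      rw [← commutator_top_top, Subgroup.commutator_le]
      intro a _ b _
      refine (QuotientGroup.eq_one_iff _).1 ?_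
      change QuotientGroup.mk' (P S 3) ⁅a, b⁆ = 1
      rw [map_commutatorElement, commutatorElement_eq_one_iff_commute]
      have hc : ∀ g : S, ∀ y ∈ P S 1,
          Commute (QuotientGroup.mk' (P S 3) y) (QuotientGroup.mk' (P S 3) g) := fun g y hy => by
        rw [← commutatorElement_eq_one_iff_commute, ← map_commutatorElement]
        exact (QuotientGroup.eq_one_iff _).2 (mem_M.1 (htop ▸ Subgroup.mem_top g : g ∈ M S 1) y hy)
      obtain ⟨y, hy, _, ⟨k, rfl⟩, rfl⟩ := Subgroup.mem_sup_of_normal_left.1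
        ((h.P_one_sup ht).symm ▸ Subgroup.mem_top a : a ∈ P S 1 ⊔ Subgroup.zpowers t)
      obtain ⟨z, hz, _, ⟨l, rfl⟩, rfl⟩ := Subgroup.mem_sup_of_normal_left.1
        ((h.P_one_sup ht).symm ▸ Subgroup.mem_top b : b ∈ P S 1 ⊔ Subgroup.zpowers t)
      simp only [map_mul, map_zpow]
      refine Commute.mul_left (Commute.mul_right (hc z y hy) ((hc t y hy).zpow_right l))
        (Commute.mul_right ((hc t z hz).symm.zpow_left k) ((Commute.refl _).zpow_zpow k l))
    have := Subgroup.card_le_of_le hle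
    have h4 := h.four_le
    rw [h.card_P (by omega) (by omega), h.card_P (by omega) (by omega),
      Nat.pow_le_pow_iff_right hp.out.one_lt] at this
    omega
  · have hle : P S (i + 1) ≤ P S (i + 2) := by
      rw [← commutator_P_top h2, Subgroup.commutator_le]
      exact fun a ha g _ => mem_M.1 (htop ▸ Subgroup.mem_top g : g ∈ M S i) a ha
    have := Subgroup.card_le_of_le hle
    rw [h.card_P (by omega) (by omega), h.card_P (by omega) hin,
      Nat.pow_le_pow_iff_right hp.out.one_lt] at this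
    omega

/-- `t` is uniform as soon as it avoids `P 1` and all two-step centralisers. -/
theorem MC.uniform_of {t : S} (h1 : t ∉ P S 1) (hM : ∀ i, 2 ≤ i → i + 2 ≤ n → t ∉ M S i) :
    Uniform n t := by
  intro i hi hin x hx hxt
  by_contra hx'
  set π := QuotientGroup.mk' (P S (i + 2)) with hπ
  have key : ∀ a ∈ P S i, Commute (π a) (π t) := fun a ha => by
    obtain ⟨k, r, hr, rfl⟩ := h.exists_coord hi (by omega) hx hx' ha
    rw [map_mul, map_zpow]
    refine Commute.mul_left ?_ (Commute.zpow_left ?_ k)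
    · rw [← commutatorElement_eq_one_iff_commute, ← map_commutatorElement]
      exact (QuotientGroup.eq_one_iff _).2 (comm_mem (by omega) hr t)
    · rw [← commutatorElement_eq_one_iff_commute, ← map_commutatorElement]
      exact (QuotientGroup.eq_one_iff _).2 hxt
  have ht : t ∈ M S i := mem_M.2 fun a ha => by
    refine (QuotientGroup.eq_one_iff _).1 ?_
    change π ⁅a, t⁆ = 1
    rw [map_commutatorElement, commutatorElement_eq_one_iff_commute]
    exact key a ha
  rcases Nat.lt_or_ge i 2 with h2 | h2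
  · obtain rfl : i = 1 := by omega
    refine h.M_ne_top le_rfl hin ?_
    refine eq_top_iff.2 ?_
    rw [← h.P_one_sup h1, sup_le_iff, Subgroup.zpowers_le]
    refine ⟨?_, ht⟩
    intro g hg
    refine mem_M.2 fun a ha => ?_
    obtain ⟨k, r, hr, rfl⟩ := h.exists_coord le_rfl (by omega) hx hx' ha
    obtain ⟨l, s, hs, rfl⟩ := h.exists_coord le_rfl (by omega) hx hx' hg
    refine (QuotientGroup.eq_one_iff _).1 ?_
    change π ⁅r * x ^ k, s * x ^ l⁆ = 1
    rw [map_commutatorElement, commutatorElement_eq_one_iff_commute]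
    have hc : ∀ z ∈ P S 2, ∀ g : S, Commute (π z) (π g) := fun z hz g => by
      rw [← commutatorElement_eq_one_iff_commute, ← map_commutatorElement]
      exact (QuotientGroup.eq_one_iff _).2 (comm_mem (by omega) hz g)
    simp only [map_mul, map_zpow]
    refine Commute.mul_left (Commute.mul_right (hc r hr s) ((hc r hr x).zpow_right l))
      (Commute.mul_right ((hc s hs x).symm.zpow_left k) ((Commute.refl _).zpow_zpow k l))
  · exact hM i h2 hin ht

theorem MC.zpow_notMem {i : ℕ} {y : S} (hy : y ∈ P S i) (hy' : y ∉ P S (i + 1)) {l : ℤ}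
    (hl : ¬ (p : ℤ) ∣ l) : y ^ l ∉ P S (i + 1) := by
  intro hmem
  obtain ⟨a, b, hab⟩ := ((Int.natCast_dvd.not.1 hl |> (Nat.Prime.coprime_iff_not_dvd hp.out).2) :
    Nat.Coprime p l.natAbs) |> fun hc => (Int.isCoprime_iff_gcd_eq_one.2 (by simpa [Int.gcd] using hc) :
      IsCoprime (p : ℤ) l)
  refine hy' ?_
  rw [← zpow_one y, ← hab, zpow_add, mul_comm a, zpow_mul, mul_comm b, zpow_mul, zpow_natCast]
  exact mul_mem (zpow_mem (h.pow_mem_succ hy) a) (zpow_mem hmem b)

theorem MC.last_central {x : S} (hx : x ∈ P S (n - 1)) (g : S) : Commute x g := by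
  have h4 := h.four_le
  rw [← commutatorElement_eq_one_iff_commute]
  refine h.eq_one (i := n - 1 + 1) (by omega) (comm_mem (by omega) hx g)

variable {t : S} (ht : Uniform n t)
include ht

theorem MC.Uniform.comm_notMem {i : ℕ} (hi : 1 ≤ i) (hin : i + 2 ≤ n) {x : S} (hx : x ∈ P S i)
    (hx' : x ∉ P S (i + 1)) : ⁅x, t⁆ ∉ P S (i + 2) := fun hc => hx' (ht i hi hin x hx hc)

theorem MC.Uniform.cm_notMem {i : ℕ} (hi : 1 ≤ i) {x : S} (hx : x ∈ P S i) (hx' : x ∉ P S (i + 1)) :
    ∀ k, i + k < n → cm t k x ∉ P S (i + k + 1) := by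
  intro k
  induction k with
  | zero => exact fun _ => hx'
  | succ k ih =>
    intro hk
    rw [show i + (k + 1) + 1 = i + k + 2 by omega]
    exact MC.Uniform.comm_notMem (i := i + k) h ht (by omega) (by omega) (cm_mem hi hx t k)
      (ih (by omega))

theorem MC.Uniform.mem_last {x : S} (hx : x ∈ P S 1) (hc : Commute x t) : x ∈ P S (n - 1) := by
  have h4 := h.four_le
  have : ∀ k, k + 1 ≤ n - 1 → x ∈ P S (k + 1) := by
    intro k
    induction k with
    | zero => exact fun _ => hx
    | succ k ih =>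
      intro hk
      exact ht (k + 1) (by omega) (by omega) x (ih (by omega))
        (by rw [commutatorElement_eq_one_iff_commute.2 hc]; exact one_mem _)
  have h2 := this (n - 2) (by omega)
  rwa [show n - 2 + 1 = n - 1 by omega] at h2

theorem MC.Uniform.pow_mem_last : t ^ p ∈ P S (n - 1) :=
  MC.Uniform.mem_last h ht (h.pow_mem_succ (i := 0) (Subgroup.mem_top t)) (Commute.pow_self t p)

theorem MC.Uniform.card_centralizer_le : Nat.card (Subgroup.centralizer ({t} : Set S)) ≤ p ^ 2 := by
  have h4 := h.four_le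
  set C := Subgroup.centralizer ({t} : Set S) with hC
  have h1 := ((P S 1).subgroupOf C).card_mul_index
  have h2 : Nat.card ((P S 1).subgroupOf C) ≤ p := by
    rw [← Subgroup.card_map_of_injective C.subtype_injective, Subgroup.subgroupOf_map_subtype,
      show p = p ^ (n - (n - 1)) by rw [show n - (n - 1) = 1 by omega, pow_one],
      ← h.card_P (by omega) (by omega)]
    refine Subgroup.card_le_of_le fun x hx => MC.Uniform.mem_last h ht hx.1 ?_
    exact (Subgroup.mem_centralizer_singleton_iff.1 hx.2)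
  have h3 : ((P S 1).subgroupOf C).index ≤ p := by
    have := Subgroup.relIndex_dvd_index_of_normal (P S 1) C
    rw [h.index_P_one] at this
    exact Nat.le_of_dvd hp.out.pos this
  rw [← h1, pow_two]
  exact Nat.mul_le_mul h2 h3

/-- The coset of `t` modulo `P 2` is its conjugacy class. -/
theorem MC.Uniform.exists_conj {z : S} (hz : z ∈ P S 2) : ∃ g : S, z * t = g * t * g⁻¹ := by
  have h4 := h.four_le
  let f : S ⧸ Subgroup.centralizer ({t} : Set S) → P S 2 := fun q =>
    Quotient.liftOn' q (fun g => ⟨⁅g, t⁆, comm_mem_top g t⟩) fun a b hab => by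
      rw [QuotientGroup.leftRel_apply, Subgroup.mem_centralizer_singleton_iff] at hab
      refine Subtype.ext ?_
      show ⁅a, t⁆ = ⁅b, t⁆
      rw [show b = a * (a⁻¹ * b) by group, show ⁅a * (a⁻¹ * b), t⁆ =
        a * ((a⁻¹ * b) * t) * (a⁻¹ * b)⁻¹ * a⁻¹ * t⁻¹ by group, hab]
      group
  have hinj : Function.Injective f := by
    intro q r
    induction q using QuotientGroup.induction_on with | H a => ?_
    induction r using QuotientGroup.induction_on with | H b => ?_
    intro he
    have he1 : ⁅a, t⁆ = ⁅b, t⁆ := congrArg Subtype.val he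
    have he' : a * t * a⁻¹ = b * t * b⁻¹ := mul_right_cancel (b := t⁻¹) he1
    refine QuotientGroup.eq.2 (Subgroup.mem_centralizer_singleton_iff.2 ?_)
    calc a⁻¹ * b * t = a⁻¹ * (b * t * b⁻¹) * b := by group
      _ = a⁻¹ * (a * t * a⁻¹) * b := by rw [he']
      _ = t * (a⁻¹ * b) := by group
  have hsurj : Function.Surjective f := by
    refine ((Function.Injective.bijective_of_nat_card_le hinj ?_)).2
    have h1 := (Subgroup.centralizer ({t} : Set S)).card_mul_index
    have h2 := MC.Uniform.card_centralizer_le h ht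
    rw [h.card_P (by omega) (by omega), ← Subgroup.index_eq_card]
    refine Nat.le_of_mul_le_mul_left ?_ (pow_pos hp.out.pos 2)
    rw [← pow_add, show 2 + (n - 2) = n by omega, ← h.card, ← h1]
    exact Nat.mul_le_mul_right _ h2
  obtain ⟨q, hq⟩ := hsurj ⟨z, hz⟩
  induction q using QuotientGroup.induction_on with | H a => ?_
  refine ⟨a, ?_⟩
  rw [show z = ⁅a, t⁆ from (congrArg Subtype.val hq).symm]
  group

theorem MC.Uniform.mul_pow_eq {z : S} (hz : z ∈ P S 2) : (z * t) ^ p = t ^ p := by
  obtain ⟨g, hg⟩ := MC.Uniform.exists_conj h ht hz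
  rw [hg, conj_pow]
  have := (h.last_central (MC.Uniform.pow_mem_last h ht) g).symm
  rw [this.eq, mul_inv_cancel_right]

theorem MC.Uniform.pow_aux : ∀ d j, n ≤ j + d → 2 ≤ j → ∀ x ∈ P S j, x ^ p ∈ P S (j + p - 1) ∧
    (x ∉ P S (j + 1) → j + p - 1 < n → x ^ p ∉ P S (j + p)) := by
  have hp2 := hp.out.two_le
  intro d
  induction d with
  | zero =>
    intro j hj _ x hx
    rw [h.eq_one (by omega) hx, one_pow]
    exact ⟨one_mem _, fun hc => absurd (one_mem _) hc⟩
  | succ d ih =>
    intro j hjd hj x hx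
    obtain ⟨l, hl, hmem⟩ := pow_congr h (by omega) hx t
      (fun z hz => by
        have := (ih (j + 1) (by omega) (by omega) z hz).1
        rwa [show j + 1 + p - 1 = j + p by omega] at this)
      (fun k hk1 _ y hy => P_anti (by omega) (comm_le (by omega) (by omega) hy hx))
    rw [MC.Uniform.mul_pow_eq h ht (P_anti hj hx)] at hmem
    have hcomm := h.last_central (MC.Uniform.pow_mem_last h ht) (x ^ p)
    rw [show (t ^ p)⁻¹ * (x ^ p * t ^ p) = x ^ p by rw [← hcomm.eq]; group] at hmem
    set c := cm t (p - 1) x with hc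
    have hcm : c ∈ P S (j + p - 1) := by
      have := cm_mem (by omega : 1 ≤ j) hx t (p - 1)
      rwa [show j + (p - 1) = j + p - 1 by omega] at this
    refine ⟨?_, fun hx' hlt hbad => ?_⟩
    · have := mul_mem (zpow_mem hcm l) (P_anti (Nat.sub_le _ 1) hmem)
      rwa [mul_inv_cancel_left] at this
    · have hc' : c ∉ P S (j + p - 1 + 1) := by
        have := MC.Uniform.cm_notMem h ht (by omega) hx hx' (p - 1) (by omega)
        rwa [show j + (p - 1) + 1 = j + p - 1 + 1 by omega] at this
      refine h.zpow_notMem hcm hc' hl ?_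
      rw [show j + p - 1 + 1 = j + p by omega]
      have := mul_mem hbad (inv_mem hmem)
      rwa [mul_inv_rev, inv_inv, mul_inv_cancel_left] at this

/-- `p`-th powers from the layers `j ≥ 2`. -/
theorem MC.Uniform.pow_mem {j : ℕ} (hj : 2 ≤ j) {x : S} (hx : x ∈ P S j) : x ^ p ∈ P S (j + p - 1) :=
  (MC.Uniform.pow_aux h ht n j (by omega) hj x hx).1

theorem MC.Uniform.pow_notMem {j : ℕ} (hj : 2 ≤ j) (hjn : j + p - 1 < n) {x : S} (hx : x ∈ P S j)
    (hx' : x ∉ P S (j + 1)) : x ^ p ∉ P S (j + p) :=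
  (MC.Uniform.pow_aux h ht n j (by omega) hj x hx).2 hx' hjn

/-- `p`-th powers from the layer `1`. -/
theorem MC.Uniform.pow_one_layer {x : S} (hx : x ∈ P S 1) (hn : p + 1 < n)
    (hxt : (x * t) ^ p ∈ P S (p + 1))
    (hk : ∀ k, 2 ≤ k → k < p → ∀ y ∈ P S k, ⁅y, x⁆ ∈ P S (k + 2)) :
    x ^ p ∈ P S p ∧ (x ∉ P S 2 → x ^ p ∉ P S (p + 1)) := by
  have hp2 := hp.out.two_le
  obtain ⟨l, hl, hmem⟩ := pow_congr h le_rfl hx t
    (fun z hz => by
      have := MC.Uniform.pow_mem h ht le_rfl hz
      rwa [show 2 + p - 1 = 1 + p by omega] at this)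
    (fun k hk1 hk2 y hy => by
      rw [show 1 + k + 1 = k + 2 by omega]
      exact hk k hk1 hk2 y (by rwa [show 1 + k - 1 = k by omega] at hy))
  set c := cm t (p - 1) x with hc
  have hcm : c ∈ P S p := by
    have := cm_mem le_rfl hx t (p - 1)
    rwa [show 1 + (p - 1) = p by omega] at this
  have htp : t ^ p ∈ P S (p + 1) := P_anti (by omega) (MC.Uniform.pow_mem_last h ht)
  rw [show 1 + p = p + 1 by omega] at hmem
  set π := QuotientGroup.mk' (P S (p + 1)) with hπ
  have heq : π (x ^ p) = π (c ^ l) := by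
    have h1 : π ((c ^ l)⁻¹ * (((x * t) ^ p)⁻¹ * (x ^ p * t ^ p))) = 1 :=
      (QuotientGroup.eq_one_iff _).2 hmem
    rw [map_mul π _ (_ * _), map_mul π (_)⁻¹ (_ * _), map_mul π (x ^ p), map_inv, map_inv,
      show π ((x * t) ^ p) = 1 from (QuotientGroup.eq_one_iff _).2 hxt,
      show π (t ^ p) = 1 from (QuotientGroup.eq_one_iff _).2 htp,
      inv_one, one_mul, mul_one] at h1
    exact (inv_mul_eq_one.1 h1).symm
  refine ⟨?_, fun hx' hbad => ?_⟩
  · have h2 : x ^ p * (c ^ l)⁻¹ ∈ P S (p + 1) := (QuotientGroup.eq_one_iff _).1 (by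
      change π _ = 1
      rw [map_mul, map_inv, heq, mul_inv_cancel])
    have := mul_mem (P_succ_le p h2) (zpow_mem hcm l)
    rwa [inv_mul_cancel_right] at this
  · refine h.zpow_notMem hcm ?_ hl ((QuotientGroup.eq_one_iff _).1 ?_)
    · have := MC.Uniform.cm_notMem h ht le_rfl hx hx' (p - 1) (by omega)
      rwa [show 1 + (p - 1) + 1 = p + 1 by omega] at this
    · change π _ = 1
      rw [← heq]
      exact (QuotientGroup.eq_one_iff _).2 hbad

end Cfsg.Agent.Lib.MaxClass
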