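import Cfsg.Agent.Lib.MaxClass.Rank

/-!
# Elements with centraliser of order `p ^ 2`

Owner: helper2.  In a group of maximal class (any prime, order at least `p ^ 3`) they avoid every given
proper subgroup; hence they generate.
-/

set_option autoImplicit false
set_option linter.style.haveILetI false
set_option linter.unusedSectionVars false

open scoped commutatorElement

namespace Cfsg.Agent.Lib.MaxClass

universe u

variable {p n : ℕ} [hp : Fact p.Prime] {X : Type u} [Group X] [Finite X]

theorem card_centralizer_eq_sq (hX : IsPGroup p X) {x : X} (hx : x ∉ Subgroup.center X)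
    (hle : Nat.card (Subgroup.centralizer ({x} : Set X)) ≤ p ^ 2) :
    Nat.card (Subgroup.centralizer ({x} : Set X)) = p ^ 2 := by
  refine le_antisymm hle ?_
  obtain ⟨e, he⟩ := IsPGroup.iff_card.1 (hX.to_subgroup (Subgroup.centralizer ({x} : Set X)))
  have hlt : Subgroup.center X < Subgroup.centralizer ({x} : Set X) :=
    lt_of_le_of_ne (Subgroup.center_le_centralizer _) fun hc =>
      hx (hc ▸ Subgroup.mem_centralizer_singleton_iff.2 rfl)
  haveI : Nontrivial X := ⟨x, 1, fun h1 => hx (h1 ▸ one_mem _)⟩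
  haveI := hX.center_nontrivial
  have h1 : 1 < Nat.card (Subgroup.center X) := Finite.one_lt_card
  have h2 : Nat.card (Subgroup.center X) < Nat.card (Subgroup.centralizer ({x} : Set X)) :=
    lt_of_le_of_ne (Subgroup.card_le_of_le hlt.le) fun hc => hlt.ne (Subgroup.eq_of_le_of_card_ge hlt.le hc.ge)
  obtain ⟨d, hd⟩ := IsPGroup.iff_card.1 (hX.to_subgroup (Subgroup.center X))
  rw [hd] at h1 h2
  rw [he] at h2 ⊢
  rw [Nat.pow_lt_pow_iff_right hp.out.one_lt] at h2
  refine Nat.pow_le_pow_right hp.out.pos ?_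
  by_contra h3
  have hd0 : d = 0 := by omega
  rw [hd0, pow_zero] at h1
  exact lt_irrefl 1 h1

/-- Elements with centraliser of order `p ^ 2` lie outside any given proper subgroup. -/
theorem exists_uniform_notMem [Group.IsNilpotent X] (hn : 3 ≤ n) (hcard : Nat.card X = p ^ n)
    (hmax : Group.nilpotencyClass X = n - 1) (H : Subgroup X) (hH : H ≠ ⊤) :
    ∃ x, x ∉ H ∧ x ∉ Subgroup.center X ∧ Nat.card (Subgroup.centralizer ({x} : Set X)) = p ^ 2 := by
  have hX : IsPGroup p X := IsPGroup.of_card hcard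
  have hnc : Subgroup.center X ≠ ⊤ := fun hc => by
    have := PGroups.nilpotencyClass_le_one_of_comm (X := X)
      ⟨⟨fun a b => (Subgroup.mem_center_iff.1 (hc ▸ Subgroup.mem_top a : a ∈ Subgroup.center X) b).symm⟩⟩
    omega
  suffices hs : ∃ x, x ∉ H ∧ x ∉ Subgroup.center X ∧ Nat.card (Subgroup.centralizer ({x} : Set X)) ≤ p ^ 2 by
    obtain ⟨x, h1, h2, h3⟩ := hs
    exact ⟨x, h1, h2, card_centralizer_eq_sq hX h2 h3⟩
  have htwo : ∀ A B : Subgroup X, A ≠ ⊤ → B ≠ ⊤ → ∃ x, x ∉ A ∧ x ∉ B := by
    intro A B hA hB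
    by_contra hne
    push Not at hne
    obtain ⟨a, ha⟩ : ∃ a, a ∉ A := by
      by_contra hall
      push Not at hall
      exact hA (eq_top_iff.2 fun g _ => hall g)
    refine hB (eq_top_iff.2 fun g _ => ?_)
    by_cases hg : g ∈ A
    · have := B.mul_mem (B.inv_mem (hne a ha)) (hne (a * g) fun hc => ha (by
        have := A.mul_mem hc (A.inv_mem hg)
        rwa [mul_inv_cancel_right] at this))
      rwa [inv_mul_cancel_left] at this
    · exact hne g hg
  rcases Nat.lt_or_ge n 4 with hn4 | hn4
  · -- order `p ^ 3`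
    obtain rfl : n = 3 := by omega
    obtain ⟨x, hxH, hxZ⟩ := htwo H _ hH hnc
    refine ⟨x, hxH, hxZ, ?_⟩
    obtain ⟨e, he3, he⟩ := (Nat.dvd_prime_pow hp.out).1
      (hcard ▸ Subgroup.card_subgroup_dvd_card (Subgroup.centralizer ({x} : Set X)))
    rw [he]
    refine Nat.pow_le_pow_right hp.out.pos ?_
    by_contra h3
    have htop : Subgroup.centralizer ({x} : Set X) = ⊤ :=
      Subgroup.eq_top_of_card_eq _ (by rw [he, hcard, show e = 3 by omega])
    exact hxZ (Subgroup.mem_center_iff.2 fun g => Subgroup.mem_centralizer_singleton_iff.1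
      (htop.symm ▸ Subgroup.mem_top g : g ∈ Subgroup.centralizer ({x} : Set X)))
  have hMC := MC.of_class hn4 hcard hmax
  rcases eq_or_ne p 2 with rfl | hp2
  · have hidx := PGroups.index_commutator_of_class (p := 2) n (by omega) hcard hmax
    obtain ⟨C, hC, hCi⟩ := PGroups.exists_cyclic_index_two n (by omega) hcard hidx
    haveI := hC
    have hCtop : C ≠ ⊤ := fun h1 => by rw [h1, Subgroup.index_top] at hCi; omega
    obtain ⟨x, hxH, hxC⟩ := htwo H C hH hCtop
    have hfix := PGroups.card_fixed_eq_two C hC.isMulCommutative hCi hidx x hxC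
    refine ⟨x, hxH, fun hxZ => ?_, ?_⟩
    · rw [PGroups.center_eq_fixed (by omega) hcard hidx C hC hCi x hxC] at hxZ
      exact hxC hxZ.1
    · haveI : C.Normal := Subgroup.normal_of_index_eq_two hCi
      have h1 := Subgroup.relIndex_mul_relIndex ⊥ _ (Subgroup.centralizer ({x} : Set X)) bot_le
        (inf_le_right : C ⊓ Subgroup.centralizer ({x} : Set X) ≤ _)
      rw [Subgroup.relIndex_bot_left, Subgroup.relIndex_bot_left, hfix, Subgroup.inf_relIndex_right] at h1
      have h2 := Nat.le_of_dvd two_pos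
        (hCi ▸ Subgroup.relIndex_dvd_index_of_normal C (Subgroup.centralizer ({x} : Set X)))
      rw [← h1]
      exact (Nat.mul_le_mul_left 2 h2).trans_eq (by norm_num)
  · have hp3 : 3 ≤ p := by have := hp.out.two_le; omega
    obtain ⟨x, hxH, hx1, hx2⟩ := exists_notMem_three hp3 hX hH hMC.P_one_ne_top
      (hMC.M_ne_top (i := n - 2) (by omega) (by omega))
    have hu : Uniform n x := hMC.uniform_of hx1 fun i h2 hin => by
      rcases (by omega : i + 1 ≤ n - 2 ∨ i = n - 2) with hi | rfl
      exacts [hMC.notMem_M (hMC.deg_sub_two hp3) (by omega) hi hin hx1, hx2]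
    refine ⟨x, hxH, fun hxZ => ?_, MC.Uniform.card_centralizer_le hMC hu⟩
    have htop : Subgroup.centralizer ({x} : Set X) = ⊤ := eq_top_iff.2 fun g _ =>
      Subgroup.mem_centralizer_singleton_iff.2 (Subgroup.mem_center_iff.1 hxZ g)
    have := MC.Uniform.card_centralizer_le hMC hu
    rw [htop, Subgroup.card_top, hcard, Nat.pow_le_pow_iff_right hp.out.one_lt] at this
    omega

theorem card_center_eq [Group.IsNilpotent X] (hn : 3 ≤ n) (hcard : Nat.card X = p ^ n)
    (hmax : Group.nilpotencyClass X = n - 1) : Nat.card (Subgroup.center X) = p := by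
  have hX : IsPGroup p X := IsPGroup.of_card hcard
  haveI : Nontrivial X := by
    rw [← Finite.one_lt_card_iff_nontrivial, hcard]
    exact Nat.one_lt_pow (by omega) hp.out.one_lt
  obtain ⟨x, -, hxZ, hx⟩ := exists_uniform_notMem hn hcard hmax ⊥ bot_ne_top
  have hlt : Subgroup.center X < Subgroup.centralizer ({x} : Set X) :=
    lt_of_le_of_ne (Subgroup.center_le_centralizer _) fun hc =>
      hxZ (hc ▸ Subgroup.mem_centralizer_singleton_iff.2 rfl)
  have h2 : Nat.card (Subgroup.center X) < Nat.card (Subgroup.centralizer ({x} : Set X)) :=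
    lt_of_le_of_ne (Subgroup.card_le_of_le hlt.le) fun hc => hlt.ne (Subgroup.eq_of_le_of_card_ge hlt.le hc.ge)
  obtain ⟨d, hd⟩ := IsPGroup.iff_card.1 (hX.to_subgroup (Subgroup.center X))
  haveI := hX.center_nontrivial
  have h1 : 1 < Nat.card (Subgroup.center X) := Finite.one_lt_card
  rw [hx, hd, Nat.pow_lt_pow_iff_right hp.out.one_lt] at h2
  rw [hd] at h1 ⊢
  rcases (by omega : d = 0 ∨ d = 1) with rfl | rfl
  · simp at h1
  · rw [pow_one]

end Cfsg.Agent.Lib.MaxClass
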