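import Cfsg.Agent.Lib.MaxClass.Basic

/-!
# The `p`-th power of an element of a layer

Owner: helper2.  `x ^ p * t ^ p` differs from `(x * t) ^ p` by a power, prime to `p`, of the iterated
commutator `⁅x, t, …, t⁆` (`p - 1` times), modulo the next layer.  The exponent is computed in the wreath
product `C_p ≀ C_p`.
-/

set_option autoImplicit false
set_option linter.style.haveILetI false
set_option linter.unusedSectionVars false

open scoped commutatorElement

namespace Cfsg.Agent.Lib.MaxClass

universe u

/-- Iterated commutators with a fixed element. -/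
def cm {G : Type*} [Group G] (t : G) : ℕ → G → G
  | 0, x => x
  | k + 1, x => ⁅cm t k x, t⁆

section wreath

variable (p : ℕ) [hp : Fact p.Prime]

/-- Translation of functions on `ZMod p`. -/
def shiftEquiv (k : ZMod p) : MulAut (Multiplicative (ZMod p → ZMod p)) where
  toFun f := Multiplicative.ofAdd fun a => f.toAdd (a + k)
  invFun f := Multiplicative.ofAdd fun a => f.toAdd (a - k)
  left_inv f := by simp
  right_inv f := by simp
  map_mul' f g := rfl

/-- The action of the top group. -/
def shiftHom : Multiplicative (ZMod p) →* MulAut (Multiplicative (ZMod p → ZMod p)) where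
  toFun k := shiftEquiv p k.toAdd
  map_one' := by
    ext f a
    simp [shiftEquiv]
  map_mul' k l := by
    ext f a
    simp [shiftEquiv, add_comm, add_left_comm]

/-- The wreath product `C_p ≀ C_p`. -/
abbrev Wr : Type :=
  Multiplicative (ZMod p → ZMod p) ⋊[shiftHom p] Multiplicative (ZMod p)

instance wrFinite : Finite (Wr p) := Finite.of_equiv _ SemidirectProduct.equivProd.symm

/-- The delta function. -/
def wBase : Wr p := SemidirectProduct.inl (Multiplicative.ofAdd fun a => if a = 0 then 1 else 0)

/-- The top generator. -/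
def wTop : Wr p := SemidirectProduct.inr (Multiplicative.ofAdd 1)

theorem card_wr : Nat.card (Wr p) = p ^ (p + 1) := by
  rw [Nat.card_congr SemidirectProduct.equivProd, Nat.card_prod,
    Nat.card_congr Multiplicative.toAdd, Nat.card_congr Multiplicative.toAdd, Nat.card_fun,
    Nat.card_zmod, pow_succ]

theorem lcs_wr : lcs (Wr p) p = ⊥ := by
  haveI : Group.IsNilpotent (Wr p) := (IsPGroup.of_card (card_wr p)).isNilpotent
  refine Subgroup.lowerCentralSeries_eq_bot_iff_nilpotencyClass_le.2 ?_
  rcases Classical.em (IsMulCommutative (Wr p)) with hc | hc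
  · have := Cfsg.Agent.Lib.PGroups.nilpotencyClass_le_one_of_comm (X := Wr p) hc
    have := hp.out.two_le
    omega
  · have := Cfsg.Agent.Lib.PGroups.nilpotencyClass_le_pred (p + 1) (card_wr p) hc
    omega

theorem inl_pow (f : Multiplicative (ZMod p → ZMod p)) :
    (SemidirectProduct.inl f : Wr p) ^ p = 1 := by
  rw [← map_pow]
  convert map_one (SemidirectProduct.inl (φ := shiftHom p))
  refine Multiplicative.toAdd.injective (funext fun a => ?_)
  simp

theorem wTop_pow : wTop p ^ p = 1 := by
  rw [wTop, ← map_pow]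
  convert map_one (SemidirectProduct.inr (φ := shiftHom p))
  refine Multiplicative.toAdd.injective ?_
  simp

theorem mul_wTop_pow (k : ℕ) : ((wBase p * wTop p) ^ k).left.toAdd =
    (fun a : ZMod p => ∑ i ∈ Finset.range k, if a + (i : ZMod p) = 0 then (1 : ZMod p) else 0) ∧
    ((wBase p * wTop p) ^ k).right.toAdd = (k : ZMod p) := by
  induction k with
  | zero =>
    refine ⟨funext fun a => ?_, ?_⟩ <;> simp
  | succ k ih =>
    rw [pow_succ, SemidirectProduct.mul_left, SemidirectProduct.mul_right]
    refine ⟨funext fun a => ?_, ?_⟩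
    · rw [toAdd_mul, Pi.add_apply, ih.1, Finset.sum_range_succ]
      simp only [shiftHom, shiftEquiv, MonoidHom.coe_mk, OneHom.coe_mk, MulEquiv.coe_mk, Equiv.coe_fn_mk,
        toAdd_ofAdd, ih.2]
      simp [wBase, wTop]
    · rw [toAdd_mul, ih.2]
      simp [wBase, wTop]

theorem mul_wTop_pow_ne_one : (wBase p * wTop p) ^ p ≠ 1 := by
  intro he
  have h1 := congrArg (fun g : Wr p => g.left.toAdd 0) he
  simp only [(mul_wTop_pow p p).1] at h1
  rw [Finset.sum_eq_single 0] at h1
  · simp at h1
  · intro i hi hi0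
    rw [if_neg]
    rw [zero_add, ZMod.natCast_eq_zero_iff]
    intro hd
    have := Nat.le_of_dvd (by omega) hd
    rw [Finset.mem_range] at hi
    omega
  · intro h0
    exact absurd (Finset.mem_range.2 hp.out.pos) h0

end wreath

section power

variable {p n : ℕ} [hp : Fact p.Prime] {S : Type u} [Group S] [Finite S]

theorem cm_mem {j : ℕ} (hj : 1 ≤ j) {x : S} (hx : x ∈ P S j) (t : S) :
    ∀ k, cm t k x ∈ P S (j + k) := by
  intro k
  induction k with
  | zero => exact hx
  | succ k ih => exact comm_mem (by omega) ih t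

theorem cm_mem_lcs {G : Type*} [Group G] (t x : G) : ∀ k, cm t k x ∈ lcs G k := by
  intro k
  induction k with
  | zero => exact Subgroup.mem_top x
  | succ k ih => exact Subgroup.commutator_mem_commutator ih (Subgroup.mem_top t)

theorem cm_wr_base (k : ℕ) : cm (wTop p) k (wBase p) ∈
    (SemidirectProduct.inl : _ →* Wr p).range := by
  induction k with
  | zero => exact ⟨_, rfl⟩
  | succ k ih =>
    rw [SemidirectProduct.range_inl_eq_ker_rightHom, MonoidHom.mem_ker] at ih ⊢
    show SemidirectProduct.rightHom ⁅cm (wTop p) k (wBase p), wTop p⁆ = 1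
    rw [map_commutatorElement, ih, commutatorElement_one_left]

/-- Auxiliary filtration of `S × C_p ≀ C_p`. -/
def tf (S : Type u) [Group S] (p : ℕ) [Fact p.Prime] (j m : ℕ) : Subgroup (S × Wr p) :=
  (P S (j + m)).prod (lcs (Wr p) m)

instance tf_normal (j m : ℕ) : (tf S p j m).Normal := by
  refine ⟨fun a ha g => ⟨?_, ?_⟩⟩
  · exact (P_normal _).conj_mem _ ha.1 g.1
  · exact (lcs_normal m).conj_mem _ ha.2 g.2

theorem tf_comm {j m : ℕ} (hj : 1 ≤ j + m) {a : S × Wr p} (ha : a ∈ tf S p j m) (g : S × Wr p) :
    ⁅a, g⁆ ∈ tf S p j (m + 1) :=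
  ⟨comm_mem hj ha.1 g.1, Subgroup.commutator_mem_commutator ha.2 (Subgroup.mem_top g.2)⟩

theorem tf_le {j m : ℕ} : tf S p j (m + 1) ≤ tf S p j m :=
  fun _ h => ⟨P_succ_le _ h.1, (⊤ : Subgroup (Wr p)).lowerCentralSeries_antitone (Nat.le_succ m) h.2⟩

/-- The key congruence, for an arbitrary finite group. -/
theorem pow_congr_aux {j : ℕ} (hj : 1 ≤ j) {x : S} (hx : x ∈ P S j) (t : S)
    (hpow : ∀ z ∈ P S (j + 1), z ^ p ∈ P S (j + p))
    (hk : ∀ k, 2 ≤ k → k < p → ⁅cm t (k - 1) x, x⁆ ∈ P S (j + k + 1)) :
    ∃ l : ℤ, ¬ (p : ℤ) ∣ l ∧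
      (cm t (p - 1) x ^ l)⁻¹ * (((x * t) ^ p)⁻¹ * (x ^ p * t ^ p)) ∈ P S (j + p) := by
  have hp2 := hp.out.two_le
  set a : S × Wr p := (x, wBase p) with ha
  set b : S × Wr p := (t, wTop p) with hb
  set q : ℕ → S × Wr p := fun m => (cm t m x, cm (wTop p) m (wBase p)) with hq
  have hqmem : ∀ m, q m ∈ tf S p j m := fun m => ⟨cm_mem hj hx t m, cm_mem_lcs _ _ m⟩
  set R : ℕ → Subgroup (S × Wr p) := fun m => Subgroup.zpowers (q m) ⊔ tf S p j (m + 1) with hR
  have hRle : ∀ m, R m ≤ tf S p j m := fun m => sup_le ((Subgroup.zpowers_le).2 (hqmem m)) tf_le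
  have hRn : ∀ m, (R m).Normal := fun m => ⟨fun r hr g => by
    have h1 : ⁅r, g⁆ ∈ R m := Subgroup.mem_sup_right (tf_comm (by omega) (hRle m hr) g)
    have h2 := mul_mem (inv_mem h1) hr
    rwa [show ⁅r, g⁆⁻¹ * r = g * r * g⁻¹ by group] at h2⟩
  set H := Subgroup.closure ({a, b} : Set (S × Wr p)) with hH
  have hmain : ∀ m, 1 ≤ m → m ≤ p - 1 → H.lowerCentralSeries m ≤ R m := by
    intro m
    induction m with
    | zero => omega
    | succ m ih =>
      intro _ hm
      haveI := hRn (m + 1)
      set π := QuotientGroup.mk' (R (m + 1)) with hπ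
      suffices hs : ∀ r ∈ (if m = 0 then H else R m), ∀ g ∈ ({a, b} : Set (S × Wr p)), ⁅r, g⁆ ∈ R (m + 1) by
        have hcent : ∀ r ∈ (if m = 0 then H else R m), ∀ g ∈ H, ⁅r, g⁆ ∈ R (m + 1) := by
          intro r hr g hg
          refine (QuotientGroup.eq_one_iff _).1 ?_
          change π ⁅r, g⁆ = 1
          rw [map_commutatorElement, commutatorElement_eq_one_iff_commute]
          induction hg using Subgroup.closure_induction with
          | mem g hg =>
            rw [← commutatorElement_eq_one_iff_commute, ← map_commutatorElement]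
            exact (QuotientGroup.eq_one_iff _).2 (hs r hr g hg)
          | one => rw [map_one]; exact Commute.one_right _
          | mul g g' _ _ h1 h2 => rw [map_mul]; exact h1.mul_right h2
          | inv g _ h1 => rw [map_inv]; exact h1.inv_right
        rw [Subgroup.lowerCentralSeries_succ, Subgroup.commutator_le]
        intro r hr g hg
        refine hcent r ?_ g hg
        split
        · exact Subgroup.lowerCentralSeries_le_self H m hr
        · exact ih (by omega) (by omega) hr
      have hq1 : q (m + 1) ∈ R (m + 1) := Subgroup.mem_sup_left (Subgroup.mem_zpowers _)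
      intro r hr g hg
      refine (QuotientGroup.eq_one_iff _).1 ?_
      change π ⁅r, g⁆ = 1
      rw [map_commutatorElement, commutatorElement_eq_one_iff_commute]
      split at hr
      next h0 =>
        subst h0
        have hab : Commute (π a) (π b) := by
          rw [← commutatorElement_eq_one_iff_commute, ← map_commutatorElement]
          exact (QuotientGroup.eq_one_iff _).2 hq1
        induction hr using Subgroup.closure_induction with
        | mem r hr =>
          rcases hr with rfl | rfl <;> rcases hg with rfl | rfl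
          exacts [Commute.refl _, hab, hab.symm, Commute.refl _]
        | one => rw [map_one]; exact Commute.one_left _
        | mul r r' _ _ h1 h2 => rw [map_mul]; exact h1.mul_left h2
        | inv r _ h1 => rw [map_inv]; exact h1.inv_left
      next h0 =>
        obtain ⟨c, hc, d, hd, rfl⟩ := Subgroup.mem_sup_of_normal_right.1 hr
        rw [map_mul]
        refine Commute.mul_left ?_ ?_
        · obtain ⟨i, rfl⟩ := hc
          simp only [map_zpow]
          refine Commute.zpow_left ?_ i
          rw [← commutatorElement_eq_one_iff_commute, ← map_commutatorElement]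
          refine (QuotientGroup.eq_one_iff _).2 ?_
          rcases hg with rfl | rfl
          · refine Subgroup.mem_sup_right ⟨?_, ?_⟩
            · show ⁅cm t m x, x⁆ ∈ P S (j + (m + 1 + 1))
              have := hk (m + 1) (by omega) (by omega)
              rw [Nat.add_sub_cancel] at this
              rwa [show j + (m + 1 + 1) = j + (m + 1) + 1 by omega]
            · show ⁅cm (wTop p) m (wBase p), wBase p⁆ ∈ _
              obtain ⟨f, hf⟩ := cm_wr_base (p := p) m
              rw [← hf, wBase, ← map_commutatorElement, commutatorElement_eq_one_iff_commute.2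
                (Commute.all _ _), map_one]
              exact one_mem _
          · exact hq1
        · rw [← commutatorElement_eq_one_iff_commute, ← map_commutatorElement]
          exact (QuotientGroup.eq_one_iff _).2 (Subgroup.mem_sup_right (tf_comm (by omega) hd g))
  obtain ⟨c, hc, hab⟩ := Cfsg.Agent.Lib.PGroupTheory.hallPetrescu a b p
  have hcp : c p ∈ R (p - 1) := hmain (p - 1) (by omega) le_rfl (hc p)
  -- split off the last factor
  have hlist : List.range' 2 (p - 1) = List.range' 2 (p - 2) ++ [p] := by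
    conv_lhs => rw [show p - 1 = p - 2 + 1 by omega, List.range'_1_concat,
      show 2 + (p - 2) = p by omega]
  rw [hlist, List.map_append, List.prod_append, List.map_singleton, List.prod_singleton,
    Nat.choose_self, pow_one] at hab
  set d := ((List.range' 2 (p - 2)).map fun i => c i ^ p.choose i).prod with hd
  let N : Subgroup (S × Wr p) := (P S (j + p)).prod ⊥
  have hdN : d ∈ N := by
    refine Subgroup.list_prod_mem _ fun y hy => ?_
    obtain ⟨i, hi, rfl⟩ := List.mem_map.1 hy
    obtain ⟨hi2, hip⟩ := List.mem_range'_1.1 hi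
    obtain ⟨k, hk'⟩ := hp.out.dvd_choose_self (by omega : i ≠ 0) (by omega : i < p)
    have hci : c i ∈ R 1 := hmain 1 le_rfl (by omega)
      (H.lowerCentralSeries_antitone (by omega) (hc i))
    have hci' := hRle 1 hci
    refine ⟨?_, ?_⟩
    · rw [Prod.pow_fst, hk', pow_mul]
      exact pow_mem (hpow _ hci'.1) k
    · rw [Prod.pow_snd, hk', pow_mul]
      have : (c i).2 ∈ (SemidirectProduct.inl : _ →* Wr p).range := by
        rw [SemidirectProduct.range_inl_eq_ker_rightHom]
        have h2 := hci'.2
        have hle : lcs (Wr p) 1 ≤ (SemidirectProduct.rightHom : Wr p →* _).ker := by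
          rw [lcs, Subgroup.lowerCentralSeries_succ, Subgroup.lowerCentralSeries_zero, Subgroup.commutator_le]
          intro u _ v _
          rw [MonoidHom.mem_ker, map_commutatorElement,
            commutatorElement_eq_one_iff_commute.2 (Commute.all _ _)]
        exact hle h2
      obtain ⟨f, hf⟩ := this
      rw [← hf, inl_pow, one_pow]
      exact Subgroup.one_mem _
  obtain ⟨y, hy, z, hz, hyz⟩ := Subgroup.mem_sup_of_normal_right.1 hcp
  obtain ⟨l, rfl⟩ := hy
  have hz1 : z.1 ∈ P S (j + p) := by
    have := hz.1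
    rwa [show j + (p - 1 + 1) = j + p by omega] at this
  have hz2 : z.2 = 1 := by
    have := hz.2
    rw [show p - 1 + 1 = p by omega, lcs_wr] at this
    exact Subgroup.mem_bot.1 this
  refine ⟨l, fun hdvd => mul_wTop_pow_ne_one p ?_, ?_⟩
  · have h2 := congrArg Prod.snd hab
    obtain ⟨m, rfl⟩ := hdvd
    obtain ⟨f, hf⟩ := cm_wr_base (p := p) (p - 1)
    have h3 : (c p).2 = 1 := by
      rw [← hyz, Prod.snd_mul, hz2, mul_one]
      show cm (wTop p) (p - 1) (wBase p) ^ ((p : ℤ) * m) = 1
      rw [← hf, zpow_mul, zpow_natCast, inl_pow, one_zpow]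
    simp only [Prod.snd_mul, Prod.pow_snd, h3, mul_one,
      (Subgroup.mem_bot.1 hdN.2 : d.2 = 1)] at h2
    simp only [ha, hb, wTop_pow, mul_one] at h2
    rw [← h2]
    exact inl_pow p _
  · have h1 := congrArg Prod.fst hab
    simp only [Prod.fst_mul, Prod.pow_fst, ha, hb] at h1
    rw [h1, inv_mul_cancel_left, ← hyz, Prod.fst_mul]
    show (cm t (p - 1) x ^ l)⁻¹ * (d.1 * (cm t (p - 1) x ^ l * z.1)) ∈ _
    rw [show (cm t (p - 1) x ^ l)⁻¹ * (d.1 * (cm t (p - 1) x ^ l * z.1)) =
      ((cm t (p - 1) x ^ l)⁻¹ * d.1 * (cm t (p - 1) x ^ l)⁻¹⁻¹) * z.1 by group]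
    exact mul_mem ((P_normal _).conj_mem _ hdN.1 _) hz1

/-- The key congruence. -/
theorem pow_congr (_h : MC p n S) {j : ℕ} (hj : 1 ≤ j) {x : S} (hx : x ∈ P S j) (t : S)
    (hpow : ∀ z ∈ P S (j + 1), z ^ p ∈ P S (j + p))
    (hk : ∀ k, 2 ≤ k → k < p → ∀ y ∈ P S (j + k - 1), ⁅y, x⁆ ∈ P S (j + k + 1)) :
    ∃ l : ℤ, ¬ (p : ℤ) ∣ l ∧
      (cm t (p - 1) x ^ l)⁻¹ * (((x * t) ^ p)⁻¹ * (x ^ p * t ^ p)) ∈ P S (j + p) :=
  pow_congr_aux hj hx t hpow fun k hk2 hkp => hk k hk2 hkp _ (by
    have := cm_mem hj hx t (k - 1)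
    rwa [show j + (k - 1) = j + k - 1 by omega] at this)

end power

end Cfsg.Agent.Lib.MaxClass
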